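import Mathlib

/-!
# Arithmetic for Sylow numbers below `p ^ 2`
-/

set_option autoImplicit false

namespace Cfsg.Lib.Np

theorem key_div {p r d : ℕ} (hp : 2 ≤ p) (hr : r < p) (h1 : d ∣ (p - 1) * (r * p + 1))
    (h2 : d % p = 1) (h3 : d ≠ 1) (h4 : d ≠ r * p + 1) :
    ∃ a b : ℕ, p = a * b + 1 ∧ 2 ≤ a ∧ a ≤ b ∧ r + b = a * b + a ∧ d + p = a * p + 1 := by
  obtain ⟨k, hk⟩ := h1
  obtain ⟨q, rfl⟩ : ∃ q, p = q + 1 := ⟨p - 1, by omega⟩
  rw [Nat.add_sub_cancel] at hk
  obtain ⟨u, hu⟩ : ∃ u, d = u * (q + 1) + 1 := ⟨d / (q + 1), by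
    have := Nat.div_add_mod d (q + 1); rw [h2] at this; linarith⟩
  have hu0 : 0 < u := Nat.pos_of_ne_zero (by rintro rfl; simp at hu; exact h3 hu)
  obtain ⟨v, hv⟩ : (q + 1 : ℕ) ∣ k + 1 := by
    have : ((q + 1 : ℕ) : ℤ) ∣ ((k + 1 : ℕ) : ℤ) := ⟨1 + q * r - u * k, by
      subst hu; zify at hk; push_cast; linear_combination -hk⟩
    exact_mod_cast this
  have hv0 : v ≠ 0 := by rintro rfl; simp at hv
  have hv1 : v ≠ 1 := by
    rintro rfl
    have : k = q := by omega
    subst this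
    exact h4 (Nat.eq_of_mul_eq_mul_left (show 0 < k by omega) (by rw [hk, mul_comm])).symm
  obtain ⟨w, rfl⟩ : ∃ w, v = w + 1 := ⟨v - 1, by omega⟩
  have hw : 0 < w := by omega
  have e1 : ((r : ℤ) - u * (w + 1)) * q = (1 + u) * w := by
    have hq : (q + 1 : ℤ) ≠ 0 := by positivity
    apply mul_left_cancel₀ hq
    subst hu
    zify at hk hv
    linear_combination hk + (u * (q + 1) + 1) * hv
  have hq : (0 : ℤ) < q := by omega
  have e2 : (r : ℤ) - u * (w + 1) = 1 := by
    have h5 : (0 : ℤ) < r - u * (w + 1) := by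
      by_contra! h5
      have : (0 : ℤ) < (1 + u) * w := by positivity
      nlinarith
    have h6 : (r : ℤ) - u * (w + 1) < 2 := by
      by_contra! h6
      have h7 : (r : ℤ) ≤ q := by omega
      have : (w : ℤ) ≤ u * w := by
        have : (1 : ℤ) ≤ u := by omega
        nlinarith
      nlinarith
    omega
  rw [e2, one_mul] at e1
  refine ⟨u + 1, w, by zify; linear_combination e1, by omega, ?_, by zify; linear_combination e2,
    by rw [hu]; ring⟩
  have h7 : (r : ℤ) ≤ q := by omega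
  zify
  nlinarith

variable {p a b m d : ℕ}

theorem div_plus (hp : p = a * b + 1) (hm : m + b = p) (ha : 2 ≤ a) (hab : a ≤ b)
    (h1 : d ∣ (p - 1) * (m * (p + a))) (h2 : d % p = 1) : d = 1 ∨ d = m * (p + a) ∨ d = a * m := by
  obtain ⟨r, hr⟩ : ∃ r, r + b = a * b + a := ⟨a * b + a - b, by
    have : b ≤ a * b := Nat.le_mul_of_pos_left _ (by omega); omega⟩
  have hn : m * (p + a) = r * p + 1 := by
    zify at *
    have e1 : (m : ℤ) = p - b := by linarith
    have e2 : (r : ℤ) = a * b + a - b := by linarith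
    rw [e1, e2, hp]; ring
  by_contra! h
  obtain ⟨a', b', e1, e2, e3, e4, e5⟩ := key_div (p := p) (r := r) (by nlinarith) (by omega)
    (hn ▸ h1) h2 h.1 (hn ▸ h.2.1)
  have e6 : a' = a := by
    rcases lt_trichotomy a' a with h5 | h5 | h5
    · have : b' < b := by omega
      have := Nat.mul_lt_mul'' h5 this
      omega
    · exact h5
    · have : b < b' := by omega
      have := Nat.mul_lt_mul'' h5 this
      omega
  subst e6
  refine h.2.2 ?_
  zify at *
  linear_combination e5 - a' * hm - hp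

theorem div_minus (hp : p = a * b + 1) (hm : m + b = p) (ha : 2 ≤ a) (hab : a ≤ b)
    (h1 : d ∣ (p - 1) * (m * (p + a))) (h2 : p ∣ d + 1) :
    d = (p - 1) * (m * (p + a)) ∨ d = a * b ∨ d = b * (p + a) := by
  obtain ⟨k, hk⟩ := h1
  obtain ⟨c, hc⟩ := h2
  have h0 : p - 1 = a * b := by omega
  have hm0 : 0 < m := by nlinarith
  have h3 : k % p = 1 := by
    refine Eq.trans (Nat.modEq_iff_dvd.2 ⟨1 + a * b * (a * b + a - b) - c * k, ?_⟩ : k ≡ 1 [MOD p])
      (Nat.mod_eq_of_lt (by nlinarith))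
    rw [h0] at hk
    zify at *
    have e1 : (m : ℤ) = p - b := by linarith
    rw [e1] at hk
    rw [hp] at hk hc ⊢
    linear_combination -hk - k * hc
  rcases div_plus hp hm ha hab ⟨d, by rw [hk, mul_comm]⟩ h3 with rfl | rfl | rfl
  · exact .inl (by omega)
  · exact .inr (.inl (h0 ▸ (Nat.eq_of_mul_eq_mul_right (by positivity) hk).symm))
  · refine .inr (.inr (Nat.eq_of_mul_eq_mul_right (show 0 < a * m by positivity) ?_))
    rw [← hk, h0]; ring

end Cfsg.Lib.Np
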