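import Cfsg.Agent.Lib.Np.Arith
import Cfsg.Agent.Lib.Cyc.Brauer2
import Cfsg.Agent.S4503
import Cfsg.Agent.S4504

/-!
# The principal block when there are fewer than `p ^ 2` Sylow subgroups
-/

set_option autoImplicit false

namespace Cfsg.Lib.Np

open Cfsg.Lib.Char Cfsg.Lib.Small Cfsg.Lib.Cyc Subgroup Finset
open scoped MatrixGroups

variable {G : Type*} [Group G]

/-- The shape of the principal block. -/
structure NP (p e t a b m : ℕ) (S Y A B C D : Finset (IrrCharacter G)) (s : IrrCharacter G → ℤ)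
    (δ : ℤ) (θ : IrrCharacter G) : Prop extends PB p e t S Y s δ where
  perf : commutator G = ⊤
  core : pPrimeCore p G = ⊥
  hp : p = a * b + 1
  hm : m + b = p
  a2 : 2 ≤ a
  ab : a ≤ b
  idx : ∀ x : G, orderOf x = p → (centralizer ({x} : Set G)).index = e * (m * (p + a))
  mem : θ ∈ Y
  split : ∀ (R : Type) [AddCommMonoid R] (F : IrrCharacter G → R), ∑ χ ∈ S, F χ =
    F (irrOne G) + ∑ χ ∈ A, F χ + ∑ χ ∈ B, F χ + ∑ χ ∈ C, F χ + ∑ χ ∈ D, F χ
  hA : ∀ χ ∈ A, χ ∈ S ∧ s χ = 1 ∧ charDegree (χ : G → ℂ) = m * (p + a)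
  hB : ∀ χ ∈ B, χ ∈ S ∧ s χ = 1 ∧ charDegree (χ : G → ℂ) = a * m
  hC : ∀ χ ∈ C, χ ∈ S ∧ s χ = -1 ∧ charDegree (χ : G → ℂ) = a * b
  hD : ∀ χ ∈ D, χ ∈ S ∧ s χ = -1 ∧ charDegree (χ : G → ℂ) = b * (p + a)
  exc : δ = -1 ∧ t * charDegree (θ : G → ℂ) = b * (p + a) ∨ 2 ≤ t ∧ δ = 1 ∧
    (t * charDegree (θ : G → ℂ) = m * (p + a) ∨ t * charDegree (θ : G → ℂ) = a * m)

variable [Finite G] {p e t a b m : ℕ} {S Y A B C D : Finset (IrrCharacter G)}
  {s : IrrCharacter G → ℤ} {δ : ℤ} {χ θ : IrrCharacter G} {g x y : G}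

/-- A character of degree `p - 1` forces `t` to be even. -/
theorem two_dvd_t (h : PB0 p e t S Y s δ) (hG : commutator G = ⊤) (hO : pPrimeCore p G = ⊥)
    (h3 : 3 ≤ p) (hχ : χ ∈ S ∨ χ ∈ Y) (h1 : charDegree (χ : G → ℂ) + 1 = p)
    (h2 : ∀ R : Subgroup G, Nat.card R = p → fixDim (χ : G → ℂ) R = 0) : 2 ∣ t := by
  obtain ⟨x, hx⟩ := h.exists_orderOf
  have hC := h.card_centralizer_of_lt hG hO hχ (by omega) (by omega) hx
  have h4 := h.mul_add_one
  rcases Nat.even_or_odd e with he | he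
  · have := h.two_mul_dvd hG χ.2.isCharacter hx hC he (h2 _ ((Nat.card_zpowers x).trans hx))
    rw [show charDegree (χ : G → ℂ) = e * t by omega, mul_comm 2] at this
    exact Nat.dvd_of_mul_dvd_mul_left h.pos this
  · have h5 : 2 ∣ e * t := by
      have := h.prime.eq_two_or_odd
      omega
    exact (Nat.prime_two.dvd_mul.1 h5).resolve_left he.not_two_dvd_nat

omit [Finite G] in
theorem NP.of_pred (h : PB p e t S Y s δ) (hG : commutator G = ⊤) (hO : pPrimeCore p G = ⊥)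
    (hp : p = a * b + 1) (hm : m + b = p) (ha : 2 ≤ a) (hab : a ≤ b)
    (hn : ∀ x : G, orderOf x = p → (centralizer ({x} : Set G)).index = e * (m * (p + a)))
    (hθ : θ ∈ Y) (hS : ∀ χ ∈ S, χ ≠ irrOne G → s χ = 1 ∧ (charDegree (χ : G → ℂ) = m * (p + a) ∨
      charDegree (χ : G → ℂ) = a * m) ∨ s χ = -1 ∧ (charDegree (χ : G → ℂ) = a * b ∨
      charDegree (χ : G → ℂ) = b * (p + a)))
    (hY : δ = -1 ∧ t * charDegree (θ : G → ℂ) = b * (p + a) ∨ 2 ≤ t ∧ δ = 1 ∧
      (t * charDegree (θ : G → ℂ) = m * (p + a) ∨ t * charDegree (θ : G → ℂ) = a * m)) :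
    ∃ A B C D, NP p e t a b m S Y A B C D s δ θ := by
  classical
  refine ⟨{χ ∈ {χ ∈ S.erase (irrOne G) | s χ = 1} | charDegree (χ : G → ℂ) = m * (p + a)},
    {χ ∈ {χ ∈ S.erase (irrOne G) | s χ = 1} | ¬ charDegree (χ : G → ℂ) = m * (p + a)},
    {χ ∈ {χ ∈ S.erase (irrOne G) | ¬ s χ = 1} | charDegree (χ : G → ℂ) = a * b},
    {χ ∈ {χ ∈ S.erase (irrOne G) | ¬ s χ = 1} | ¬ charDegree (χ : G → ℂ) = a * b},
    h, hG, hO, hp, hm, ha, hab, hn, hθ, fun R _ F => ?_, fun χ hχ => ?_, fun χ hχ => ?_,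
    fun χ hχ => ?_, fun χ hχ => ?_, hY⟩
  · rw [add_assoc, add_assoc (F _), sum_filter_add_sum_filter_not, sum_filter_add_sum_filter_not,
      add_assoc, sum_filter_add_sum_filter_not, add_sum_erase _ _ h.one_mem]
  all_goals
    simp only [mem_filter, mem_erase] at hχ
    have := hS χ hχ.1.1.2 hχ.1.1.1
    refine ⟨hχ.1.1.2, ?_⟩
    omega

set_option maxHeartbeats 400000 in
theorem exists_np [IsSimpleGroup G] [Fact p.Prime] (hG : commutator G = ⊤) (P : Sylow p G)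
    (hP : Nat.card P = p) (hp : p = a * b + 1) (hm : m + b = p) (ha : 2 ≤ a) (hab : a ≤ b)
    (hn : Nat.card (Sylow p G) = m * (p + a)) : Nonempty (G ≃* PSL(2, ZMod p)) ∨
    ∃ (e t : ℕ) (S Y A B C D : Finset (IrrCharacter G)) (s : IrrCharacter G → ℤ) (δ : ℤ)
      (θ : IrrCharacter G), NP p e t a b m S Y A B C D s δ θ := by
  classical
  obtain ⟨t, S, Y, s, δ, h⟩ := exists_pb P hP
  generalize (centralizer ((P : Subgroup G) : Set G)).relIndex _ = e at h
  obtain ⟨x, hx⟩ := h.exists_orderOf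
  obtain ⟨θ, hθ⟩ := h.nonempty
  have hO : pPrimeCore p G = ⊥ := Core.pPrimeCore_eq_bot_iff.2 fun N hN h1 =>
    hN.eq_bot_or_eq_top.resolve_right fun h2 => by
      rw [h2, card_top] at h1
      exact h.prime.one_lt.ne' (Nat.eq_one_of_dvd_coprimes h1 h.dvd dvd_rfl)
  have hi : ∀ x : G, orderOf x = p → (centralizer ({x} : Set G)).index = e * (m * (p + a)) :=
    fun x hx => hn ▸ h.index_eq hx
  have h1 := h.mul_add_one
  have h2 := one_lt_charDegree hG (h.ne_one hθ)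
  have h3 : 5 ≤ p := by nlinarith
  have hm0 : 1 < m := by nlinarith
  have h4 : ∀ d : ℕ, (p : ℤ) ∣ d - 1 → d % p = 1 := fun d h4 =>
    Eq.trans ((Nat.modEq_iff_dvd.2 (dvd_sub_comm.1 h4)) : d ≡ 1 [MOD p])
      (Nat.mod_eq_of_lt (by omega))
  have hS0 : ∀ χ ∈ S, t * charDegree (χ : G → ℂ) ∣ (p - 1) * (m * (p + a)) := fun χ hχ => by
    rw [← h.mul, mul_comm e, mul_assoc, ← hi x hx]
    exact mul_dvd_mul_left t (h.dvdS hχ hx)
  have hS : ∀ χ ∈ S, χ ≠ irrOne G → s χ = 1 ∧ (charDegree (χ : G → ℂ) = m * (p + a) ∨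
      charDegree (χ : G → ℂ) = a * m) ∨ s χ = -1 ∧ (charDegree (χ : G → ℂ) =
      (p - 1) * (m * (p + a)) ∨ charDegree (χ : G → ℂ) = a * b ∨
      charDegree (χ : G → ℂ) = b * (p + a)) := fun χ hχ h5 => by
    have h6 := (dvd_mul_left _ _).trans (hS0 χ hχ)
    have h7 := h.modS hχ
    have h8 := one_lt_charDegree hG h5
    refine (h.signS χ hχ).imp (fun e => ⟨e, (div_plus hp hm ha hab h6 (h4 _ (e ▸ h7))).resolve_left
      h8.ne'⟩) fun e => ⟨e, div_minus hp hm ha hab h6 ?_⟩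
    rw [e, sub_neg_eq_add] at h7
    exact_mod_cast h7
  have hY : δ = 1 ∧ (t * charDegree (θ : G → ℂ) = m * (p + a) ∨ t * charDegree (θ : G → ℂ) = a * m)
      ∨ δ = -1 ∧ (t * charDegree (θ : G → ℂ) = (p - 1) * (m * (p + a)) ∨
      t * charDegree (θ : G → ℂ) = a * b ∨ t * charDegree (θ : G → ℂ) = b * (p + a)) := by
    have h6 : t * charDegree (θ : G → ℂ) ∣ (p - 1) * (m * (p + a)) := by
      rw [← h.mul, mul_comm e, mul_assoc, ← hi x hx]
      exact mul_dvd_mul_left t (h.dvdY hθ hx)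
    have h7 : (p : ℤ) ∣ (t * charDegree (θ : G → ℂ) : ℕ) - δ := by
      obtain ⟨k, hk⟩ := h.modY hθ
      exact ⟨t * k - δ, by zify at h1 ⊢; linear_combination t * hk - δ * h1⟩
    have h8 : 1 < t * charDegree (θ : G → ℂ) := h2.trans_le (Nat.le_mul_of_pos_left _ h.t_pos)
    refine h.sign.imp (fun e => ⟨e, (div_plus hp hm ha hab h6 (h4 _ (e ▸ h7))).resolve_left
      h8.ne'⟩) fun e => ⟨e, div_minus hp hm ha hab h6 ?_⟩
    rw [e, sub_neg_eq_add] at h7
    exact_mod_cast h7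
  have h5 := h.sum_deg' hθ
  have h6 := h.card_erase
  have h7 : a * m ≤ m * (p + a) := by nlinarith
  have h8 : 1 < m * (p + a) := by nlinarith
  have ht := Nat.le_mul_of_pos_left (charDegree (θ : G → ℂ)) h.t_pos
  generalize hN : m * (p + a) = N at *
  have hb : ∀ χ ∈ S.erase (irrOne G), s χ * charDegree (χ : G → ℂ) ≤ N := fun χ hχ => by
    rcases hS χ (mem_of_mem_erase hχ) (ne_of_mem_erase hχ) with ⟨e, h | h⟩ | ⟨e, -⟩ <;> rw [e] <;>
      omega
  replace hS := fun χ hχ h9 => (hS χ hχ h9).imp_right fun h10 => And.intro h10.1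
    (h10.2.resolve_left fun h11 => by
      have h12 : t = 1 := by
        have := Nat.le_of_dvd (Nat.mul_pos (by omega) (by omega)) (hS0 χ hχ)
        rw [h11] at this
        have := h.t_pos
        have : 0 < (p - 1) * N := Nat.mul_pos (by omega) (by omega)
        nlinarith
      have h13 := mem_erase.2 ⟨h9, hχ⟩
      have h14 := sum_le_card_nsmul _ _ _ fun ξ (hξ : ξ ∈ (S.erase (irrOne G)).erase χ) =>
        hb ξ (mem_of_mem_erase hξ)
      have h15 := card_erase_add_one h13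
      rw [← add_sum_erase _ _ h13, h10.1, h11, show p - 1 =
        #((S.erase (irrOne G)).erase χ) + 2 by subst h12; omega] at h5
      have h16 : δ * charDegree (θ : G → ℂ) ≤ N := by
        rcases hY with ⟨e, h | h⟩ | ⟨e, -⟩ <;> rw [e] <;> omega
      rw [nsmul_eq_mul] at h14
      push_cast at h5
      linarith [show (1 : ℤ) < N by omega])
  have h9 : ∀ χ ∈ S, s χ = -1 → charDegree (χ : G → ℂ) = a * b → 2 ∣ t := fun χ hχ h9 h10 =>
    two_dvd_t h.toPB0 hG hO (by omega) (.inl hχ) (by omega) fun R hR => by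
      have := h.fixS hχ hR
      rw [h9, h10, hp] at this
      have h11 : ((a * b + 1 : ℕ) : ℤ) * fixDim (χ : G → ℂ) R = 0 := by
        rw [this]; push_cast; ring
      exact_mod_cast (mul_eq_zero.1 h11).resolve_left (by positivity)
  subst hN
  rcases hY with ⟨rfl, h10⟩ | ⟨rfl, h10 | h10 | h10⟩
  · rcases Nat.eq_or_lt_of_le (show 1 ≤ t from h.t_pos) with rfl | h11
    · obtain ⟨θ', rfl⟩ := card_eq_one.1 h.cardY
      obtain rfl := mem_singleton.1 hθ
      obtain ⟨ξ, h11, h12⟩ : ∃ ξ ∈ S.erase (irrOne G), s ξ = -1 := by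
        by_contra! h11
        have := sum_nonneg (s := S.erase (irrOne G)) (f := fun χ => s χ * charDegree (χ : G → ℂ))
          fun χ hχ => by
            rw [(h.signS χ (mem_of_mem_erase hχ)).resolve_right (h11 χ hχ)]; positivity
        omega
      have h13 := mem_of_mem_erase h11
      have h14 := h.swap h13
      rw [h12] at h14
      obtain ⟨A, B, C, D, h15⟩ := NP.of_pred (θ := ξ) ⟨h14, mem_insert_of_mem (mem_erase.2
        ⟨(ne_of_mem_erase h11).symm, h.one_mem⟩)⟩ hG hO hp hm ha hab hi (mem_singleton_self ξ)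
        (fun χ hχ h15 => by
          by_cases h16 : χ = θ
          · exact .inl ⟨by simp [h16], by rw [h16]; omega⟩
          · rw [Function.update_of_ne h16]
            exact hS χ (mem_of_mem_erase ((mem_insert.1 hχ).resolve_left h16)) h15)
        (.inl ⟨rfl, by
          have := hS ξ h13 (ne_of_mem_erase h11)
          have := h9 ξ h13 h12
          omega⟩)
      exact .inr ⟨e, 1, _, _, A, B, C, D, _, _, _, h15⟩
    · obtain ⟨A, B, C, D, h15⟩ := NP.of_pred h hG hO hp hm ha hab hi hθ hS (.inr ⟨h11, rfl, h10⟩)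
      exact .inr ⟨e, t, S, Y, A, B, C, D, _, _, _, h15⟩
  · exfalso
    have h11 : charDegree (θ : G → ℂ) = e * (m * (p + a)) :=
      Nat.eq_of_mul_eq_mul_left h.t_pos (by rw [h10, ← h.mul]; ring)
    have h14 := sum_le_card_nsmul _ _ _ hb
    rw [h11, ← h6] at h5
    rw [nsmul_eq_mul] at h14
    push_cast at h5 h14
    linarith [show (1 : ℤ) < m * (p + a) by exact_mod_cast h8]
  · have h11 : charDegree (θ : G → ℂ) = e :=
      Nat.eq_of_mul_eq_mul_left h.t_pos (by rw [h10, mul_comm t]; omega)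
    rcases Nat.eq_or_lt_of_le (show 1 ≤ t from h.t_pos) with rfl | h12
    · exfalso
      have := two_dvd_t h.toPB0 hG hO (by omega) (.inr hθ) (by omega) fun R hR => by
        have := h.fixY hθ hR
        rw [h11] at this
        have h12 : (p : ℤ) * fixDim (θ : G → ℂ) R = 0 := by rw [this]; ring
        exact_mod_cast (mul_eq_zero.1 h12).resolve_left (by omega)
      omega
    · have h13 : ∀ H : Subgroup G, H.Normal → Nat.card H ≠ p := fun H hH h13 => by
        rcases hH.eq_bot_or_eq_top with rfl | rfl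
        · rw [card_bot] at h13; omega
        · rw [card_top] at h13
          exact not_comm_of_perfect hG (isCyclic_of_prime_card h13).isMulCommutative
      have h14 : ∀ g : G, (θ : G → ℂ) g = (θ : G → ℂ) 1 → g = 1 := fun g hg =>
        mem_bot.1 ((h.charKer_eq_bot hO (.inr hθ) h2).le (θ.2.isCharacter.mem_charKer_iff.2 hg))
      have h15 := Cfsg.Agent.S4503.result p h.prime h.dvd h.not_sq h13 _ θ.2.isCharacter h14
      obtain ⟨f⟩ := Cfsg.Agent.S4504.result p h.prime h.dvd h.not_sq h13 _ θ.2.isCharacter h14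
        (by
          have := Nat.mul_le_mul_left e h12
          omega)
      have h16 : center G = ⊥ := (inferInstance : (center G).Normal).eq_bot_or_eq_top.resolve_right
        fun h16 => not_comm_of_perfect hG ⟨⟨fun u v =>
          (mem_center_iff.1 (h16.ge (mem_top v)) u)⟩⟩
      exact .inl ⟨(QuotientGroup.quotientBot.symm.trans
        (QuotientGroup.quotientMulEquivOfEq h16.symm)).trans f⟩
  · obtain ⟨A, B, C, D, h15⟩ := NP.of_pred h hG hO hp hm ha hab hi hθ hS (.inl ⟨rfl, h10⟩)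
    exact .inr ⟨e, t, S, Y, A, B, C, D, _, _, _, h15⟩

theorem vanish {ψ : G → ℂ} (hψ : IsIrrCharacter G ψ) {k l : ℕ}
    (h1 : Nat.card G = charDegree ψ * k) (hl : l.Prime) (h2 : ¬ l ∣ k) (h3 : l ∣ orderOf y) :
    ψ y = 0 :=
  hψ.apply_eq_zero_of_defect_zero hl ((Nat.Coprime.pow_left _ (hl.coprime_iff_not_dvd.2
    h2)).dvd_of_dvd_mul_right (h1 ▸ Nat.ordProj_dvd _ _)) h3

namespace NP

variable (h : NP p e t a b m S Y A B C D s δ θ)
include h

omit [Finite G] in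
theorem et : e * t = a * b := by have := h.mul; have := h.hp; omega

omit [Finite G] in
theorem five_le : 5 ≤ p := by have := h.hp; nlinarith [h.a2, h.ab]

omit [Finite G] in
theorem mz : (m : ℤ) = a * b + 1 - b := by have := h.hp; have := h.hm; omega

omit [Finite G] in
theorem pz : (p : ℤ) = a * b + 1 := by exact_mod_cast h.hp

omit [Finite G] in
theorem m_pos : 0 < m := by have := h.hp; have := h.hm; nlinarith [h.a2, h.ab]

omit [Finite G] in
theorem cnt : #A + #B + #C + #D + 1 = e := by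
  have := h.split ℕ fun _ => 1
  simp only [← card_eq_sum_ones, h.cardS] at this
  omega

omit [Finite G] in
theorem sum_S {R : Type} [CommRing R] (F : IrrCharacter G → R) : ∑ χ ∈ S, s χ * F χ =
    F (irrOne G) * s (irrOne G) + ∑ χ ∈ A, F χ + ∑ χ ∈ B, F χ - ∑ χ ∈ C, F χ - ∑ χ ∈ D, F χ := by
  rw [h.split, sum_congr rfl (s₁ := A) (g := F) fun χ hχ => by simp [(h.hA χ hχ).2.1],
    sum_congr rfl (s₁ := B) (g := F) fun χ hχ => by simp [(h.hB χ hχ).2.1],
    sum_congr rfl (s₁ := C) (g := fun χ => -F χ) fun χ hχ => by simp [(h.hC χ hχ).2.1],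
    sum_congr rfl (s₁ := D) (g := fun χ => -F χ) fun χ hχ => by simp [(h.hD χ hχ).2.1],
    sum_neg_distrib, sum_neg_distrib]
  ring

theorem reg2 (hg : ¬ p ∣ orderOf g) : 1 + ∑ χ ∈ A, (χ : G → ℂ) g + ∑ χ ∈ B, (χ : G → ℂ) g -
    ∑ χ ∈ C, (χ : G → ℂ) g - ∑ χ ∈ D, (χ : G → ℂ) g + δ * (θ : G → ℂ) g = 0 := by
  have := h.reg θ h.mem g hg
  rw [h.sum_S fun χ => (χ : G → ℂ) g, h.a_one] at this
  simpa using this

omit [Finite G] in
theorem sum_F {R : Type} [CommSemiring R] (F : ℕ → R) :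
    (∑ χ ∈ A, F (charDegree (χ : G → ℂ)) = #A * F (m * (p + a))) ∧
    (∑ χ ∈ B, F (charDegree (χ : G → ℂ)) = #B * F (a * m)) ∧
    (∑ χ ∈ C, F (charDegree (χ : G → ℂ)) = #C * F (a * b)) ∧
    ∑ χ ∈ D, F (charDegree (χ : G → ℂ)) = #D * F (b * (p + a)) := by
  refine ⟨?_, ?_, ?_, ?_⟩ <;> rw [← nsmul_eq_mul, ← sum_const] <;>
    refine sum_congr rfl fun χ hχ => ?_
  exacts [by rw [(h.hA χ hχ).2.2], by rw [(h.hB χ hχ).2.2], by rw [(h.hC χ hχ).2.2],
    by rw [(h.hD χ hχ).2.2]]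

theorem deg : (1 : ℤ) + #A * (m * (p + a)) + #B * (a * m) - #C * (a * b) - #D * (b * (p + a)) +
    δ * charDegree (θ : G → ℂ) = 0 := by
  have := h.sum_deg h.mem
  obtain ⟨h1, h2, h3, h4⟩ := h.sum_F (R := ℤ) fun d => d
  have h5 := h.sum_S fun χ => (charDegree (χ : G → ℂ) : ℤ)
  simp only [Int.cast_id] at h5
  rw [h5, h.a_one, h1, h2, h3, h4] at this
  simpa [irrOne] using this

theorem sq_le : 1 + #A * (m * (p + a)) ^ 2 + #B * (a * m) ^ 2 + #C * (a * b) ^ 2 +
    #D * (b * (p + a)) ^ 2 + t * charDegree (θ : G → ℂ) ^ 2 ≤ Nat.card G := by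
  classical
  have := h.sum_sq h.mem
  obtain ⟨h1, h2, h3, h4⟩ := h.sum_F (R := ℕ) fun d => d ^ 2
  rw [h.split, h1, h2, h3, h4] at this
  simp only [Nat.cast_id, irrOne, charDegree_one, one_pow] at this
  omega

theorem mul_dvd (hχ : χ ∈ S) : t * charDegree (χ : G → ℂ) ∣ a * b * (m * (p + a)) := by
  obtain ⟨x, hx⟩ := h.exists_orderOf
  rw [← h.et, mul_comm e, mul_assoc, ← h.idx x hx]
  exact mul_dvd_mul_left t (h.dvdS hχ hx)

omit [Finite G] in
theorem dvd_b (h1 : t ∣ b * (p + a)) : t ∣ b := by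
  have h2 : t ∣ a * b := h.et ▸ dvd_mul_left _ _
  rw [show b * (p + a) = a * b * (b + 1) + b by rw [h.hp]; ring] at h1
  exact (Nat.dvd_add_right (h2.mul_right _)).1 h1

omit [Finite G] in
theorem dvd_a (h1 : t ∣ a * m) : t ∣ a := by
  have h2 : (t : ℤ) ∣ a * b := by exact_mod_cast h.et ▸ dvd_mul_left _ _
  have h3 : (t : ℤ) ∣ a * m := by exact_mod_cast h1
  rw [h.mz, show (a : ℤ) * (a * b + 1 - b) = a * b * (a - 1) + a by ring] at h3
  exact_mod_cast (dvd_add_right (h2.mul_right _)).1 h3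

omit [Finite G] in
theorem dvd_n (h1 : t ∣ m * (p + a)) : (t : ℤ) ∣ a + 1 - b := by
  have h2 : (t : ℤ) ∣ a * b := by exact_mod_cast h.et ▸ dvd_mul_left _ _
  have h3 : (t : ℤ) ∣ m * (p + a) := by exact_mod_cast h1
  rw [h.mz, h.pz, show ((a : ℤ) * b + 1 - b) * (a * b + 1 + a) =
    a * b * (a * b + 1 + a - b) + (a + 1 - b) by ring] at h3
  exact (dvd_add_right (h2.mul_right _)).1 h3

theorem tB (hχ : χ ∈ B) : t ∣ b := by
  have := h.mul_dvd (h.hB χ hχ).1
  rw [(h.hB χ hχ).2.2, show a * b * (m * (p + a)) = b * (p + a) * (a * m) by ring] at this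
  exact h.dvd_b (Nat.dvd_of_mul_dvd_mul_right (mul_pos (by have := h.a2; omega) h.m_pos) this)

theorem tD (hχ : χ ∈ D) : t ∣ a := by
  have := h.mul_dvd (h.hD χ hχ).1
  rw [(h.hD χ hχ).2.2, show a * b * (m * (p + a)) = a * m * (b * (p + a)) by ring] at this
  exact h.dvd_a (Nat.dvd_of_mul_dvd_mul_right (mul_pos (by have := h.a2; have := h.ab; omega)
    (by have := h.a2; omega)) this)

theorem fixC (hχ : χ ∈ C) {R : Subgroup G} (hR : Nat.card R = p) : fixDim (χ : G → ℂ) R = 0 := by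
  have := h.fixS (h.hC χ hχ).1 hR
  rw [(h.hC χ hχ).2.1, (h.hC χ hχ).2.2] at this
  have h11 : (p : ℤ) * fixDim (χ : G → ℂ) R = 0 := by
    rw [this, h.pz]; push_cast; ring
  exact_mod_cast (mul_eq_zero.1 h11).resolve_left (by have := h.five_le; omega)

theorem fixB (hχ : χ ∈ B) {R : Subgroup G} (hR : Nat.card R = p) : fixDim (χ : G → ℂ) R = a := by
  have := h.fixS (h.hB χ hχ).1 hR
  rw [(h.hB χ hχ).2.1, (h.hB χ hχ).2.2] at this
  have h11 : (p : ℤ) * fixDim (χ : G → ℂ) R = p * a := by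
    rw [this]; push_cast; rw [h.pz, h.mz]; ring
  exact_mod_cast mul_left_cancel₀ (by have := h.five_le; omega) h11

theorem fixD (hχ : χ ∈ D) {R : Subgroup G} (hR : Nat.card R = p) : fixDim (χ : G → ℂ) R = b := by
  have := h.fixS (h.hD χ hχ).1 hR
  rw [(h.hD χ hχ).2.1, (h.hD χ hχ).2.2] at this
  have h11 : (p : ℤ) * fixDim (χ : G → ℂ) R = p * b := by
    rw [this]; push_cast; rw [h.pz]; ring
  exact_mod_cast mul_left_cancel₀ (by have := h.five_le; omega) h11

theorem tC (hχ : χ ∈ C) : 2 ∣ t ∧ (t : ℤ) ∣ a + 1 - b := by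
  have := h.mul_dvd (h.hC χ hχ).1
  rw [(h.hC χ hχ).2.2, mul_comm (a * b)] at this
  have h1 := h.five_le
  have h2 := h.hp
  exact ⟨two_dvd_t h.toPB0 h.perf h.core (by omega) (.inl (h.hC χ hχ).1)
    (by rw [(h.hC χ hχ).2.2, h2]) fun _ => h.fixC hχ,
    h.dvd_n (Nat.dvd_of_mul_dvd_mul_right (by omega) this)⟩

end NP

end Cfsg.Lib.Np
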