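import Cfsg.Agent.Lib.Np.Two

/-!
# The self-centralizing case with `p = a ^ 2 + a + 1`
-/

set_option autoImplicit false

namespace Cfsg.Lib.Np

open Cfsg.Lib.Char Cfsg.Lib.Small Cfsg.Lib.Cyc Subgroup Finset
open scoped MatrixGroups ComplexConjugate

variable {G : Type*} [Group G] {p e t a b m l : ℕ}
  {S Y A B C D : Finset (IrrCharacter G)}
  {s : IrrCharacter G → ℤ} {δ : ℤ} {χ θ : IrrCharacter G} {g x y u v : G}

theorem card_sing [Fintype G] (h : PB p e t S Y s δ) (hθ : θ ∈ Y) :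
    p * #{g : G | p ∣ orderOf g} = t * Nat.card G ∧
      (t : ℂ) * ∑ g with ¬ p ∣ orderOf g, (θ : G → ℂ) g = -δ * #{g : G | p ∣ orderOf g} := by
  classical
  have h1 : ∀ χ : IrrCharacter G, χ ≠ irrOne G → ∑ g with ¬ p ∣ orderOf g, (χ : G → ℂ) g =
      -∑ g with p ∣ orderOf g, (χ : G → ℂ) g := fun χ hχ => by
    have := χ.2.sum_eq_zero fun e => hχ (Subtype.ext e)
    rw [← sum_filter_add_sum_filter_not univ fun g => p ∣ orderOf g] at this
    linear_combination this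
  have h2 : (t : ℂ) * ∑ g with ¬ p ∣ orderOf g, (θ : G → ℂ) g = -δ * #{g : G | p ∣ orderOf g} := by
    rw [← h.cardY, ← nsmul_eq_mul, ← sum_const, sum_congr rfl fun η hη => (sum_congr rfl
      fun g hg => (h.reg_eq hθ hη (mem_filter.1 hg).2).symm).trans (h1 η (h.ne_one hη)),
      sum_neg_distrib, sum_comm, sum_congr rfl fun g hg => h.singY g (mem_filter.1 hg).2]
    simp [mul_comm]
  refine ⟨?_, h2⟩
  have h3 := sum_eq_zero (s := {g : G | ¬ p ∣ orderOf g}) fun g hg => h.reg' hθ (mem_filter.1 hg).2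
  rw [sum_add_distrib, sum_add_distrib, ← mul_sum, sum_comm, sum_congr (s₁ := S.erase (irrOne G))
    rfl (g := fun _ => -(#{g : G | p ∣ orderOf g} : ℂ)) fun χ hχ => by
      rw [← mul_sum, h1 χ (ne_of_mem_erase hχ), sum_congr rfl fun g hg =>
        h.singS χ (mem_of_mem_erase hχ) g (mem_filter.1 hg).2]
      rcases h.signS χ (mem_of_mem_erase hχ) with e | e <;> simp [e]] at h3
  have h4 : (#{g : G | p ∣ orderOf g} : ℂ) + #{g : G | ¬ p ∣ orderOf g} = Nat.card G := by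
    rw [Nat.card_eq_fintype_card]; exact_mod_cast card_filter_add_card_filter_not _
  have h5 : (#(S.erase (irrOne G)) : ℂ) + 1 = e := by exact_mod_cast h.card_erase
  have h6 : (e : ℂ) * t + 1 = p := by exact_mod_cast h.mul_add_one
  have h7 : (δ : ℂ) * δ = 1 := by exact_mod_cast h.mul_self
  have : (p : ℂ) * #{g : G | p ∣ orderOf g} = t * Nat.card G := by
    simp only [sum_const, nsmul_eq_mul, mul_one] at h3
    linear_combination -t * h3 + δ * h2 + t * h4 - #{g : G | p ∣ orderOf g} * (h6 + t * h5 + h7)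
  exact_mod_cast this

theorem sum_reg [Fintype G] (h : PB p e t S Y s δ) (hθ : θ ∈ Y) :
    (p : ℂ) * ∑ g with ¬ p ∣ orderOf g, (θ : G → ℂ) g = -δ * Nat.card G := by
  obtain ⟨h1, h2⟩ := card_sing h hθ
  have h3 : (p : ℂ) * #{g : G | p ∣ orderOf g} = t * Nat.card G := by exact_mod_cast h1
  refine mul_left_cancel₀ (Nat.cast_ne_zero.2 h.t_pos.ne' : (t : ℂ) ≠ 0) ?_
  linear_combination p * h2 - δ * h3

theorem sum_reg_sq [Fintype G] (h : PB p e t S Y s δ) (hθ : θ ∈ Y)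
    (h0 : ∀ g : G, p ∣ orderOf g → orderOf g = p) :
    (p : ℝ) * ∑ g with ¬ p ∣ orderOf g, ‖(θ : G → ℂ) g‖ ^ 2 = e * Nat.card G := by
  have h3 : (p : ℝ) * #{g : G | p ∣ orderOf g} = t * Nat.card G := by
    exact_mod_cast (card_sing h hθ).1
  have h1 := sum_congr (rfl : Y = Y) fun η _ => η.2.sum_norm_sq
  rw [sum_congr rfl fun η hη => by
      rw [← sum_filter_add_sum_filter_not univ fun g => p ∣ orderOf g, sum_congr
        (s₁ := {g | ¬ p ∣ orderOf g}) rfl fun g hg => by rw [h.reg_eq hθ hη (mem_filter.1 hg).2]],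
    sum_add_distrib, sum_comm, sum_congr (s₁ := {g | p ∣ orderOf g}) rfl (g := fun _ => (p : ℝ) - e)
      fun g hg => eq_sub_of_add_eq' (h.sum_norm_sq (h0 g (mem_filter.1 hg).2))] at h1
  simp only [sum_const, nsmul_eq_mul, h.cardY] at h1
  refine mul_left_cancel₀ (Nat.cast_ne_zero.2 h.t_pos.ne' : (t : ℝ) ≠ 0) ?_
  linear_combination p * h1 - (p - e) * h3

variable [Finite G]

theorem pairs_self (h : PB p e t S Y s δ) (hθ : θ ∈ Y) (hx : orderOf x = p)
    (hc : Nat.card (centralizer ({x} : Set G)) = p) (hg : ¬ p ∣ orderOf g) :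
    ∃ r : ℝ, 0 ≤ r ∧ ∑ χ ∈ S, (χ : G → ℂ) g / (χ : G → ℂ) 1 +
      (p - e) * ((θ : G → ℂ) g / (θ : G → ℂ) 1) = r := by
  classical
  have h1 := card_class_mul_eq x g x
  have h2 : ∑ η ∈ Y, (η : G → ℂ) x * conj ((η : G → ℂ) x) = p - e := by
    simp only [Complex.mul_conj, Complex.normSq_eq_norm_sq]
    exact_mod_cast eq_sub_of_add_eq' (h.sum_norm_sq hx)
  rw [h.sum_eq, sum_eq_zero (s := (S ∪ Y)ᶜ) fun χ hχ => by
      rw [h.apply_eq_zero hx hc (fun e => by simp [e] at hχ) fun e => by simp [e] at hχ]; simp,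
    sum_congr (s₁ := Y) rfl (g := fun η => (η : G → ℂ) x * conj ((η : G → ℂ) x) *
      ((θ : G → ℂ) g / (θ : G → ℂ) 1)) fun η hη => by
        rw [h.reg_eq hθ hη hg, h.reg_eq hθ hη h.not_dvd_one]; ring,
    ← sum_mul, h2, sum_congr (s₁ := S) rfl (g := fun χ => (χ : G → ℂ) g / (χ : G → ℂ) 1)
      fun χ hχ => by
        rw [h.singS χ hχ x hx.symm.dvd]
        rcases h.signS χ hχ with e | e <;> simp [e], add_zero] at h1
  have h3 : ((centralizer ({x} : Set G)).index : ℂ) ≠ 0 :=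
    Nat.cast_ne_zero.2 index_ne_zero_of_finite
  have h4 : ((centralizer ({g} : Set G)).index : ℂ) ≠ 0 :=
    Nat.cast_ne_zero.2 index_ne_zero_of_finite
  have h5 := card_ne_zero_complex G
  refine ⟨Nat.card {q : G × G // IsConj x q.1 ∧ IsConj g q.2 ∧ q.1 * q.2 = x} * Nat.card G /
    ((centralizer ({x} : Set G)).index * (centralizer ({g} : Set G)).index), by positivity, ?_⟩
  push_cast
  rw [h1]
  field_simp

omit [Finite G] in
theorem NP.mem_cases (h : NP p e t a b m S Y A B C D s δ θ) (hχ : χ ∈ S) :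
    χ = irrOne G ∨ χ ∈ A ∨ χ ∈ B ∨ χ ∈ C ∨ χ ∈ D := by
  classical
  have := h.split ℕ fun ψ => if ψ = χ then 1 else 0
  by_contra! h1
  simp [hχ, h1, h1.1.symm] at this

/-- Conjugates of suitable powers of `u` are numerous. -/
theorem index_mul_le {q : ℕ} (hu : orderOf u = l * q) (Z : Finset G)
    (hZ : ∀ (g : G) j, j < q → g * u ^ (1 + l * j) * g⁻¹ ∈ Z) (hl : 0 < l) :
    (centralizer ({u ^ q} : Set G)).index * q ≤ #Z := by
  classical
  have := Fintype.ofFinite G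
  have h1 : ∀ y : G, ∃ c, IsConj (u ^ q) y → c * u ^ q * c⁻¹ = y := fun y => by
    by_cases h : IsConj (u ^ q) y
    · exact (isConj_iff.1 h).imp fun _ h _ => h
    · exact ⟨1, fun h1 => absurd h1 h⟩
  choose c hc using h1
  have h2 : ∀ y j, IsConj (u ^ q) y → (c y * u ^ (1 + l * j) * (c y)⁻¹) ^ q = y := fun y j hy => by
    rw [conj_pow, ← pow_mul, add_mul, one_mul, pow_add, mul_right_comm l, pow_mul, ← hu,
      pow_orderOf_eq_one, one_pow, mul_one, hc y hy]
  rw [show (centralizer ({u ^ q} : Set G)).index * q = #(filter (IsConj (u ^ q)) univ ×ˢ range q) by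
    rw [card_product, card_range, card_filter_isConj]]
  refine card_le_card_of_injOn (fun z => c z.1 * u ^ (1 + l * z.2) * (c z.1)⁻¹)
    (fun z hz => hZ _ _ (by simpa using (mem_product.1 hz).2)) ?_
  rintro ⟨y, j⟩ hz ⟨y', j'⟩ hz' e
  simp only [coe_product, Set.mem_prod, mem_coe, mem_filter, mem_univ, true_and, mem_range] at hz hz'
  obtain rfl : y = y' := by rw [← h2 y j hz.1, ← h2 y' j' hz'.1]; exact congrArg (· ^ q) e
  simp only [mul_left_inj, mul_right_inj, pow_add] at e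
  have := pow_injOn_Iio_orderOf (hu ▸ Nat.mul_lt_mul_of_pos_left hz.2 hl :)
    (hu ▸ Nat.mul_lt_mul_of_pos_left hz'.2 hl :) e
  rw [Nat.eq_of_mul_eq_mul_left hl this]

set_option maxHeartbeats 1000000 in
theorem NP.big (h : NP p e t a b m S Y A B C D s δ θ) (hx : orderOf x = p)
    (hc : Nat.card (centralizer ({x} : Set G)) = p) (h1 : δ = -1) (hb : b = a + 1) (he : e = a)
    (hd : charDegree (θ : G → ℂ) = (a + 1) ^ 2) (hD : D = ∅) (ho : Odd a) : a < 5 := by
  classical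
  have := Fintype.ofFinite G
  by_contra! h5
  have hA := card_eq_zero.1 (h.card_A hx hc)
  have hp := h.hp
  have hm : m = a ^ 2 := by have := h.hm; subst hb; nlinarith
  have hG := h.card hx hc
  subst hb he hm h1 hA hD
  replace hG : Nat.card G = p * (e ^ 3 * (e + 1) ^ 2) := by rw [hG, hp]; ring
  have c1 : e.Coprime (e + 1) := by simp
  have c2 : e.Coprime p := h.coprime
  have c3 : (e + 1).Coprime p := by rw [hp]; simp
  have c4 : e.Coprime 2 := (Nat.coprime_two_right.2 ho)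
  have hpC : (p : ℂ) = e * (e + 1) + 1 := by exact_mod_cast hp
  have hpR : (p : ℝ) = e * (e + 1) + 1 := by exact_mod_cast hp
  have hpZ : (p : ℤ) = e * (e + 1) + 1 := by exact_mod_cast hp
  -- integrality
  have i1 : ∀ g : G, ∃ n : ℤ, ¬ p ∣ orderOf g → (θ : G → ℂ) g = n := fun g => by
    by_cases hg : p ∣ orderOf g
    · exact ⟨0, fun h => absurd hg h⟩
    refine (exists_int_of_forall_ringEquiv (θ.2.isIntegral g) fun σ => ?_).imp fun _ h _ => h
    obtain ⟨k, hk, h2⟩ := exists_pow_forall_map_apply G (σ : ℂ →+* ℂ)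
    let ξ : IrrCharacter G := ⟨_, θ.2.comp_pow hk⟩
    have h3 : charDegree (ξ : G → ℂ) = (e + 1) ^ 2 := (charDegree_congr (by simp [ξ])).trans hd
    refine (h2 _ θ.2.isGeneralizedCharacter g).trans (h.reg_eq h.mem
      ((h.comp_pow_mem (ξ := ξ) (.inr h.mem) hk fun _ => rfl).resolve_left fun h4 => ?_) hg)
    rcases h.mem_cases h4 with h6 | h6 | h6 | h6 | h6
    · rw [h6, coe_irrOne, charDegree_one] at h3; nlinarith
    · simp at h6
    · rw [(h.hB _ h6).2.2] at h3; nlinarith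
    · rw [(h.hC _ h6).2.2] at h3; nlinarith
    · simp at h6
  choose f hf using i1
  let Q : Finset G := {g | g ≠ 1 ∧ orderOf g ∣ e ^ 3}
  have q1 : ∀ g ∈ Q, ¬ p ∣ orderOf g := fun g hg h2 => h.prime.one_lt.ne'
    (Nat.eq_one_of_dvd_coprimes (c2.pow_left 3).symm dvd_rfl (h2.trans (mem_filter.1 hg).2.2))
  have q2 : ∀ g ∈ Q, ∀ χ ∈ B, (χ : G → ℂ) g = 0 := fun g hg χ hχ =>
    χ.2.apply_eq_zero_of_dvd_charDegree (m := e ^ 3) (n := p * (e + 1) ^ 2)
      ((c2.mul_right (c1.pow_right 2)).pow_left 3) (by rw [hG]; ring)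
      (by rw [(h.hB χ hχ).2.2]; exact dvd_of_eq (by ring)) fun h2 => (mem_filter.1 hg).2.1
        (orderOf_eq_one_iff.1 (Nat.eq_one_of_dvd_coprimes
          ((c2.mul_right (c1.pow_right 2)).pow_left 3) (mem_filter.1 hg).2.2 h2))
  have q3 : ∀ F : ℂ → ℂ, F 0 = 0 → ∑ g with ¬ p ∣ orderOf g, F ((θ : G → ℂ) g) =
      F ((e + 1) ^ 2) + ∑ g ∈ Q, F (f g) := fun F hF => by
    rw [← sum_congr rfl fun g hg => congrArg F (hf g (q1 g hg)), ← add_sum_erase _ _
      (mem_filter.2 ⟨mem_univ 1, h.not_dvd_one⟩), θ.2.apply_one_eq, hd]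
    push_cast
    refine congrArg _ (sum_subset (fun g hg => mem_erase.2 ⟨(mem_filter.1 hg).2.1,
      mem_filter.2 ⟨mem_univ _, q1 g hg⟩⟩) fun g h2 h3 => ?_).symm
    rw [θ.2.apply_eq_zero_of_dvd_charDegree (m := (e + 1) ^ 2) (n := p * e ^ 3)
      ((c3.mul_right (c1.symm.pow_right 3)).pow_left 2) (by rw [hG]; ring) hd.symm.dvd
      fun h4 => h3 (mem_filter.2 ⟨mem_univ _, ne_of_mem_erase h2,
        (h.prime.coprime_iff_not_dvd.2 (mem_filter.1 (mem_of_mem_erase h2)).2).symm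
          |>.dvd_of_dvd_mul_left h4⟩), hF]
  have hp0 : (p : ℂ) ≠ 0 := Nat.cast_ne_zero.2 h.prime.ne_zero
  have T1 : ∑ g ∈ Q, f g = (e + 1) ^ 2 * (e ^ 3 - 1) := by
    have h2 := sum_reg h.toPB h.mem
    rw [q3 (fun z => z) rfl, hG] at h2
    have : ∑ g ∈ Q, (f g : ℂ) = (e + 1) ^ 2 * (e ^ 3 - 1) := mul_left_cancel₀ hp0 (by
      push_cast at h2; linear_combination h2)
    exact_mod_cast this
  have T2 : ∑ g ∈ Q, f g ^ 2 = (e + 1) ^ 2 * (e ^ 4 - (e + 1) ^ 2) := by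
    have h2 := congrArg (fun r : ℝ => (r : ℂ)) (sum_reg_sq h.toPB h.mem
      fun g => orderOf_eq_of_selfCent h.toPB0 hx hc)
    simp only [Complex.ofReal_mul, Complex.ofReal_sum, Complex.ofReal_natCast] at h2
    rw [sum_congr rfl (g := fun g => (θ : G → ℂ) g ^ 2) fun g hg => by
      rw [hf g (mem_filter.1 hg).2, Complex.norm_intCast, sq_abs]; simp,
      q3 (fun z => z ^ 2) (by simp), hG] at h2
    have : ∑ g ∈ Q, (f g : ℂ) ^ 2 = (e + 1) ^ 2 * (e ^ 4 - (e + 1) ^ 2) := mul_left_cancel₀ hp0 (by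
      push_cast at h2; linear_combination h2)
    exact_mod_cast this
  have he0 : (e : ℂ) ≠ 0 := Nat.cast_ne_zero.2 (by omega)
  have he1 : (e + 1 : ℂ) ≠ 0 := Nat.cast_add_one_ne_zero e
  have q4 : ∀ g ∈ Q, -1 ≤ f g := fun g hg => by
    obtain ⟨r, h2, h3⟩ := pairs_self h.toPB h.mem hx hc (q1 g hg)
    have h4 := h.reg2 (q1 g hg)
    rw [h.split, sum_eq_zero (s := B) fun χ hχ => by rw [q2 g hg χ hχ, zero_div], sum_congr (s₁ := C)
      rfl (g := fun χ => (χ : G → ℂ) g / (e * (e + 1))) fun χ hχ => by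
        rw [χ.2.apply_one_eq, (h.hC χ hχ).2.2]; simp, ← sum_div, θ.2.apply_one_eq, hd,
      hf g (q1 g hg)] at h3
    rw [sum_eq_zero (q2 g hg), hf g (q1 g hg)] at h4
    have h6 : ∑ χ ∈ C, (χ : G → ℂ) g = 1 - f g := by
      simp only [sum_empty, Int.cast_neg, Int.cast_one] at h4; linear_combination -h4
    have h7 : (p : ℂ) * (e + 1 + (e - 1) * f g) = r * (e * (e + 1) ^ 2) := by
      rw [← h3, h6, hpC]; simp; field_simp; ring
    have h8 : (p : ℝ) * (e + 1 + (e - 1) * f g) = r * (e * (e + 1) ^ 2) := by exact_mod_cast h7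
    have h9 : (0 : ℝ) ≤ e + 1 + (e - 1) * f g := nonneg_of_mul_nonneg_right
      (h8 ▸ by positivity) (Nat.cast_pos.2 h.prime.pos)
    have h10 : (0 : ℤ) ≤ e + 1 + (e - 1) * f g := by exact_mod_cast h9
    by_contra! h11
    nlinarith [show (5 : ℤ) ≤ e by omega, show f g ≤ -2 by omega]
  have q5 : ∀ g ∈ Q, f g = 1 ∨ f g = -1 → Nat.card (centralizer ({g} : Set G)) ∣ e ^ 3 :=
    fun g hg h2 => by
      have h3 := θ.2.isIntegral_centralChar g
      rw [centralChar_def, hf g (q1 g hg), θ.2.apply_one_eq, hd] at h3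
      obtain ⟨k, hk⟩ : (e + 1) ^ 2 ∣ (centralizer ({g} : Set G)).index := by
        refine nat_dvd_of_isIntegral_div (by positivity) ?_
        rcases h2 with h2 | h2 <;> rw [h2] at h3
        · simpa using h3
        · simpa [neg_div] using h3.neg
      have h4 := (centralizer ({g} : Set G)).card_mul_index
      rw [hk, hG, ← mul_assoc p, mul_comm _ k, ← mul_assoc] at h4
      exact (h.prime.coprime_iff_not_dvd.2 (h.not_dvd_cent hx hc (mem_filter.1 hg).2.1
        (q1 g hg))).symm.dvd_of_dvd_mul_left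
        ⟨k, (Nat.eq_of_mul_eq_mul_right (by positivity) h4).symm⟩
  obtain ⟨u, u1, u2, u3⟩ := h.exists_E hx hc
  have q6 : ∀ k, ¬ e ∣ k → ∀ c : G, c * u ^ k * c⁻¹ ∈ Q ∧ f (c * u ^ k * c⁻¹) = 1 := fun k hk c => by
    have h2 : ∀ c : G, c * u ^ k * c⁻¹ ∈ Q := fun c => mem_filter.2 ⟨mem_univ _, fun h2 =>
      hk (u2 ▸ orderOf_dvd_iff_pow_eq_one.2 (by simpa using h2)), by
        rw [← orderOf_eq_of_isConj (isConj_iff.2 ⟨c, rfl⟩)]
        exact (orderOf_pow_dvd k).trans (u2 ▸ dvd_pow_self _ three_ne_zero)⟩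
    have h3 := h.not_vanish hx hc (pow_mem u1 k) (u3 k hk).1 (u3 k hk).2 (by simp)
    rw [sum_eq_zero (q2 _ (by simpa using h2 1)), ← θ.2.isClassFunction (u ^ k) c,
      hf _ (q1 _ (h2 c))] at h3
    refine ⟨h2 c, ?_⟩
    have : (f (c * u ^ k * c⁻¹) : ℂ) = 1 := by push_cast at h3; linear_combination -h3
    exact_mod_cast this
  obtain ⟨q, hq⟩ := e.minFac_dvd
  have hl := Nat.minFac_prime (show e ≠ 1 by omega)
  have hq0 : 0 < q := Nat.pos_of_ne_zero (by rintro rfl; omega)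
  have hq1 : ¬ e ∣ q := Nat.not_dvd_of_pos_of_lt hq0 (by nlinarith [hl.two_le])
  obtain ⟨y1, y2⟩ : u ^ q ∈ Q ∧ f (u ^ q) = 1 := by simpa using q6 q hq1 1
  have q7 : ∀ g ∈ Q, ((Nat.card (centralizer ({g} : Set G)) *
      Nat.card (centralizer ({u ^ q} : Set G)) : ℕ) : ℤ) ∣ p * e ^ 3 * ((e + 1) ^ 2 - f g) :=
    fun g hg => by
      have h2 := h.pairs hx hc (q1 g hg) (q1 _ y1)
      rw [sum_eq_zero (s := B) fun χ hχ => by simp [q2 g hg χ hχ], sum_eq_zero (s := C) fun χ hχ => by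
        simp [h.vanC hx hc (pow_mem u1 q) (u3 q hq1).1 hχ], hf g (q1 g hg), hf _ (q1 _ y1), y2,
        θ.2.apply_one_eq, hd, hG] at h2
      refine ⟨Nat.card {z : G × G // IsConj g z.1 ∧ IsConj (u ^ q) z.2 ∧ z.1 * z.2 = x}, ?_⟩
      have h3 : (p : ℂ) * e ^ 3 * ((e + 1) ^ 2 - f g) = Nat.card (centralizer ({g} : Set G)) *
          Nat.card (centralizer ({u ^ q} : Set G)) *
          Nat.card {z : G × G // IsConj g z.1 ∧ IsConj (u ^ q) z.2 ∧ z.1 * z.2 = x} := by
        rw [mul_comm _ (Nat.card { z // _ } : ℂ), h2]; simp; field_simp; ring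
      exact_mod_cast h3
  have y3 := q5 _ y1 (.inl y2)
  have y4 : Nat.card (centralizer ({u ^ q} : Set G)) ∣ e ^ 2 := by
    have h2 := q7 _ y1
    rw [y2, show (p : ℤ) * e ^ 3 * ((e + 1) ^ 2 - 1) = ((p * (e + 2) * (e ^ 2) ^ 2 : ℕ) : ℤ) by
      push_cast; ring, Int.natCast_dvd_natCast, ← pow_two] at h2
    exact (Nat.pow_dvd_pow_iff two_ne_zero).1 ((((c2.mul_right (by simpa using c4)).pow_left 3
      |>.coprime_dvd_left y3).pow_left 2).dvd_of_dvd_mul_left h2)
  have y5 := index_mul_le (u2.trans hq) {g ∈ Q | f g = 1} (fun c j hj => mem_filter.2 (q6 _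
    (fun h2 => hl.not_dvd_one ((Nat.dvd_add_left (dvd_mul_right _ j)).1
      (e.minFac_dvd.trans h2))) c)) hl.pos
  have y6 := (centralizer ({u ^ q} : Set G)).card_mul_index
  have y7 : ∀ Z ⊆ Q, (∀ g ∈ Z, f g ^ 2 = 1) → e * #Z < Nat.card G := fun Z hZ h2 => by
    have h3 := sum_le_sum_of_subset_of_nonneg (f := fun g => f g ^ 2) hZ fun _ _ _ => sq_nonneg _
    rw [sum_congr rfl h2, T2, sum_const, nsmul_eq_mul, mul_one] at h3
    rw [hG]
    zify
    rw [hpZ]
    have h4 : (0 : ℤ) < e := by omega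
    nlinarith [mul_le_mul_of_nonneg_left h3 h4.le, pow_pos h4 3, pow_pos h4 4, pow_pos h4 5,
      pow_pos h4 6, pow_pos h4 2]
  obtain ⟨d, hd'⟩ := y4
  by_cases y8 : d = 1
  · rw [y8, mul_one] at hd'
    have y9 : ∀ g ∈ Q, 0 ≤ f g := fun g hg => by
      by_contra! h2
      have h3 : f g = -1 := by have := q4 g hg; omega
      have h4 := q7 g hg
      have h6 := q5 g hg (.inr h3)
      rw [h3, show (p : ℤ) * e ^ 3 * ((e + 1) ^ 2 - -1) = ((p * (e * (e + 2) + 2) * e ^ 3 : ℕ) : ℤ) by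
        push_cast; ring, Int.natCast_dvd_natCast, ← hd'] at h4
      have h7 := (((c2.mul_right (by simpa using c4)).pow_left 3 |>.coprime_dvd_left h6).mul_left
        ((c2.mul_right (by simpa using c4)).pow_left 2)).dvd_of_dvd_mul_left h4
      have h8 := Nat.le_of_dvd (by omega) (Nat.dvd_of_mul_dvd_mul_right (by positivity)
        (pow_succ' e 2 ▸ h7))
      have h9 := y7 {z | IsConj g z} (fun z hz => by
        obtain ⟨c, rfl⟩ := isConj_iff.1 (mem_filter.1 hz).2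
        exact mem_filter.2 ⟨mem_univ _, by simpa using (mem_filter.1 hg).2.1, by
          rw [← orderOf_eq_of_isConj (isConj_iff.2 ⟨c, rfl⟩)]; exact (mem_filter.1 hg).2.2⟩)
        fun z hz => by
          have h9 := hf z (orderOf_eq_of_isConj (mem_filter.1 hz).2 ▸ q1 g hg)
          rw [← θ.2.isClassFunction.eq_of_isConj (mem_filter.1 hz).2, hf g (q1 g hg), h3] at h9
          rw [← Int.cast_injective h9]; rfl
      rw [card_filter_isConj, ← (centralizer ({g} : Set G)).card_mul_index] at h9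
      exact h9.not_ge (Nat.mul_le_mul_right _ h8)
    have h3 := sum_le_sum_of_subset_of_nonneg (f := f) (filter_subset (f · = 1) Q)
      fun g hg _ => y9 g hg
    rw [sum_congr rfl fun g hg => (mem_filter.1 hg).2, T1, sum_const, nsmul_eq_mul, mul_one] at h3
    rw [← hd', hG, show p * (e ^ 3 * (e + 1) ^ 2) = e ^ 2 * (p * (e * (e + 1) ^ 2)) by ring] at y6
    rw [Nat.eq_of_mul_eq_mul_left (by positivity) y6] at y5
    have h4 := (Nat.le_mul_of_pos_right _ hq0).trans y5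
    zify at h4
    rw [hpZ] at h4
    have h6 : (0 : ℤ) < e := by omega
    nlinarith [pow_pos h6 3, pow_pos h6 4, pow_pos h6 2]
  · have h2 : e.minFac ≤ d := by
      obtain ⟨r, hr, h2⟩ := Nat.exists_prime_and_dvd y8
      exact (Nat.minFac_le_of_dvd hr.two_le (hr.dvd_of_dvd_pow (hd' ▸ h2.mul_left _ : r ∣ e ^ 2))).trans
        (Nat.le_of_dvd (Nat.pos_of_ne_zero (by rintro rfl; simp at hd'; omega)) h2)
    have h3 : Nat.card (centralizer ({u ^ q} : Set G)) ≤ e * q :=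
      Nat.le_of_mul_le_mul_right (c := e.minFac) (by
        rw [mul_assoc, mul_comm q, ← hq, ← pow_two, hd']; exact Nat.mul_le_mul_left _ h2) hl.pos
    have h4 := y7 _ (filter_subset (f · = 1) Q) fun g hg => by rw [(mem_filter.1 hg).2]; rfl
    rw [← y6] at h4
    nlinarith [Nat.mul_le_mul_left e y5, Nat.mul_le_mul_right (centralizer ({u ^ q} : Set G)).index h3]

end Cfsg.Lib.Np
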