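import Cfsg.Agent.Lib.Cyc.Prime2

/-!
# Multiplicity-free characters of cyclic groups with values zero or of maximal norm
-/

set_option autoImplicit false

namespace Cfsg.Lib.Np

open Cfsg.Lib.Char Cfsg.Lib.Small Cfsg.Lib.Clifford Subgroup Finset Polynomial

theorem coset_core {e : ℕ} [NeZero e] {ζ : ℂ} (hζ : IsPrimitiveRoot ζ e) (J : Finset (Fin e))
    (h0 : 0 ∉ J) (ho : Odd #J) (hd : ζ ^ ∑ j ∈ J, j.1 = 1)
    (h : ∀ k : ℕ, ∑ j ∈ J, ζ ^ (j.1 * k) = 0 ∨ ‖∑ j ∈ J, ζ ^ (j.1 * k)‖ = #J) : False := by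
  classical
  have he := NeZero.pos e
  obtain ⟨i, hi⟩ : J.Nonempty := card_pos.1 ho.pos
  have hz : ζ ≠ 0 := hζ.ne_zero he.ne'
  have hn : ‖ζ‖ = 1 := hζ.norm'_eq_one he.ne'
  let v : J → ℂ := fun j => ζ ^ j.1.1 * (ζ ^ i.1)⁻¹
  have h1 : v ^ e = 1 := _root_.funext fun j => by
    simp only [v, Pi.pow_apply, mul_pow, inv_pow, pow_right_comm ζ _ e, hζ.pow_eq_one]
    simp
  have h2 : Function.Injective v := fun j j' hj => Subtype.ext (Fin.ext
    (hζ.pow_inj j.1.2 j'.1.2 (mul_right_cancel₀ (inv_ne_zero (pow_ne_zero _ hz)) hj)))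
  have h3 : v ⟨i, hi⟩ = 1 := mul_inv_cancel₀ (pow_ne_zero _ hz)
  have h4 : ∀ k, ∑ j, v j ^ k = if orderOf v ∣ k then (#J : ℂ) else 0 := fun k => by
    split_ifs with h4
    · simp [← Pi.pow_apply, orderOf_dvd_iff_pow_eq_one.1 h4]
    have h5 : ∑ j, v j ^ k = (∑ j ∈ J, ζ ^ (j.1 * k)) * ((ζ ^ i.1)⁻¹) ^ k := by
      rw [sum_mul, ← sum_coe_sort J]
      simp only [v, mul_pow, pow_mul]
    rcases h k with h6 | h6
    · rw [h5, h6, zero_mul]
    refine absurd (orderOf_dvd_iff_pow_eq_one.2 (_root_.funext fun j => ?_)) h4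
    have h7 := eq_of_norm_sum_eq_card (fun j => v j ^ k) (fun j => by simp [v, hn])
      (by rw [h5, norm_mul, h6]; simp [hn])
    have h8 := (h7 j).trans (h7 ⟨i, hi⟩).symm
    rw [h3, one_pow] at h8
    exact mul_left_cancel₀ (by simpa using J.nonempty_iff_ne_empty.1 ⟨i, hi⟩) h8
  obtain ⟨q, hq⟩ := orderOf_dvd_of_pow_eq_one h1
  have h5 : (e : ℂ) = #J * q := by
    have h6 := sum_congr (rfl : range e = range e) fun k _ => h4 (k + 1)
    rw [sum_comm, sum_eq_single ⟨i, hi⟩ (fun j _ hj => ?_) (by simp), ← sum_filter, sum_const,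
      h3] at h6
    · rw [Nat.card_multiples, Nat.div_eq_of_eq_mul_right (Nat.pos_of_mul_pos_right (hq ▸ he)) hq]
        at h6
      simpa [mul_comm] using h6
    · simp only [pow_succ, ← sum_mul]
      rw [geom_sum_eq fun h7 => hj (h2 (h7.trans h3.symm)), ← Pi.pow_apply, h1]
      simp
  have h6 : orderOf v = #J := by
    rw [hq] at he
    exact Nat.eq_of_mul_eq_mul_right (Nat.pos_of_mul_pos_left he) (by
      rw [← hq]; exact_mod_cast h5)
  have hω := Complex.isPrimitiveRoot_exp _ ho.pos.ne'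
  have h7 : univ.image v = nthRootsFinset #J (1 : ℂ) := eq_of_subset_of_card_le (fun z hz => by
    obtain ⟨j, -, rfl⟩ := mem_image.1 hz
    rw [mem_nthRootsFinset ho.pos, ← h6, ← Pi.pow_apply, pow_orderOf_eq_one]; rfl)
    (by rw [hω.card_nthRootsFinset, card_image_of_injective _ h2]; simp)
  have h8 := congrArg (eval 0) (X_pow_sub_one_eq_prod ho.pos hω)
  rw [← h7, prod_image fun _ _ _ _ h => h2 h] at h8
  simp only [eval_sub, eval_pow, eval_X, zero_pow ho.pos.ne', eval_one, eval_prod, eval_C, zero_sub,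
    prod_neg, card_univ, Fintype.card_coe, ho.neg_one_pow, v, prod_mul_distrib, prod_const,
    prod_pow_eq_pow_sum, sum_coe_sort J fun j => j.1, hd] at h8
  obtain ⟨j, -, hj⟩ := mem_image.1 (h7.ge ((mem_nthRootsFinset ho.pos 1).2
    (show (ζ ^ i.1)⁻¹ ^ #J = 1 by linear_combination h8)))
  have h9 : ζ ^ j.1.1 = ζ ^ 0 := by
    simpa [v, hz] using hj
  exact h0 (show (0 : Fin e) ∈ J from Fin.ext (a := j.1) (b := 0) (hζ.pow_inj j.1.2 he h9) ▸ j.2)

variable {G : Type*} [Group G] [Finite G] {H : Subgroup G}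

theorem coset (hG : commutator G = ⊤) {χ : G → ℂ} (hχ : IsCharacter G χ) {w φ : H → ℂ}
    (hw : IsCharacter H w) (hφ : IsCharacter H φ) {u : H} {e c : ℕ} (he : 0 < e) (hu : u ^ e = 1)
    (h1 : ∀ k, ¬ e ∣ k → χ (u ^ k) = w (u ^ k)) (h2 : charDegree χ = charDegree w + 2 * c * e)
    (h3 : ∀ k, ¬ e ∣ k → 1 + w (u ^ k) + φ (u ^ k) = 0) (h4 : 1 + charDegree w + charDegree φ = e)
    (h5 : Odd (charDegree w)) (h6 : ∀ k, w (u ^ k) = 0 ∨ ‖w (u ^ k)‖ = charDegree w) : False := by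
  classical
  have : NeZero e := ⟨he.ne'⟩
  have hζ := Complex.isPrimitiveRoot_exp e he.ne'
  generalize Complex.exp (2 * Real.pi * Complex.I / e) = ζ at hζ
  obtain ⟨m, m1, m2⟩ := exists_mult hχ hζ (g := (u : G)) (by exact_mod_cast hu)
  obtain ⟨n, n1, -⟩ := exists_mult hw hζ hu
  obtain ⟨r, r1, -⟩ := exists_mult hφ hζ hu
  have g1 : ∀ k, 0 < k → k < e → ∑ j : Fin e, ζ ^ (j.1 * k) = 0 := fun k h7 h8 => by
    have h9 : ζ ^ k ≠ 1 := hζ.pow_ne_one_of_pos_of_lt h7.ne' h8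
    simp only [mul_comm _ k, pow_mul]
    rw [Fin.sum_univ_eq_sum_range fun j => (ζ ^ k) ^ j, geom_sum_eq h9, ← pow_mul,
      mul_comm k, pow_mul, hζ.pow_eq_one]
    simp
  have e1 := mult_unique hζ (a := fun j => (if j = 0 then 1 else 0) + n j + r j) (b := fun _ => 1)
    fun k hk => by
      simp only [add_mul, sum_add_distrib, ← n1, ← r1, ite_mul, zero_mul, sum_ite_eq', mem_univ,
        if_true, Fin.val_zero, pow_zero, one_mul]
      rcases k.eq_zero_or_pos with rfl | h7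
      · simp [hw.apply_one_eq, hφ.apply_one_eq, ← h4]
      · rw [h3 k (Nat.not_dvd_of_pos_of_lt h7 hk), g1 k h7 hk]
  have e2 := mult_unique hζ (a := fun j => m j) (b := fun j => n j + 2 * c) fun k hk => by
    simp only [add_mul, sum_add_distrib, ← n1, ← m1, ← mul_sum]
    rcases k.eq_zero_or_pos with rfl | h7
    · simp [hw.apply_one_eq, hχ.apply_one_eq, h2]
    · rw [h1 k (Nat.not_dvd_of_pos_of_lt h7 hk), g1 k h7 hk, mul_zero, add_zero]
  have e3 : ∀ j, (if j = 0 then 1 else 0) + n j + r j = 1 := fun j => by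
    exact_mod_cast congrFun e1 j
  have e4 : ∀ j, m j = n j + 2 * c := fun j => by exact_mod_cast congrFun e2 j
  have e5 : ∀ j, n j = if n j = 1 then 1 else 0 := fun j => by
    have := e3 j; split_ifs at * <;> omega
  have e6 : ∀ {R : Type} [Semiring R] (F : Fin e → R), ∑ j, n j * F j = ∑ j with n j = 1, F j :=
    fun F => by
      rw [sum_filter]
      refine sum_congr rfl fun j _ => ?_
      split_ifs with h7
      · simp [h7]
      · simp [(e5 j).trans (if_neg h7)]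
  have e7 : charDegree w = #{j | n j = 1} := charDegree_eq_of_apply_one (by
    have := n1 0
    rw [e6] at this
    simpa using this)
  refine coset_core hζ {j | n j = 1} (by have := e3 0; simp at this ⊢; omega) (e7 ▸ h5) ?_
    fun k => by rw [← e6, ← n1, ← e7]; exact h6 k
  rw [detChar_eq_one hG] at m2
  simp only [e4, mul_add, sum_add_distrib, ← sum_mul, mul_comm _ (n _)] at m2
  rw [Fin.sum_univ_eq_sum_range (fun j => j), ← mul_assoc, sum_range_id_mul_two, pow_add,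
    mul_assoc, pow_mul, hζ.pow_eq_one, one_pow, mul_one] at m2
  rw [m2, ← e6 fun j => j.1]
  rfl

end Cfsg.Lib.Np
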