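import Cfsg.Agent.Lib.Np.Basic

/-!
# The self-centralizing case, first part
-/

set_option autoImplicit false

namespace Cfsg.Lib.Np

open Cfsg.Lib.Char Cfsg.Lib.Small Cfsg.Lib.Cyc Subgroup Finset
open scoped MatrixGroups ComplexConjugate

variable {G : Type*} [Group G] [Finite G] {p e t a b m l : ℕ}
  {S Y A B C D : Finset (IrrCharacter G)}
  {s : IrrCharacter G → ℤ} {δ : ℤ} {χ θ : IrrCharacter G} {g x y u v : G}

namespace NP

variable (h : NP p e t a b m S Y A B C D s δ θ)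
include h

theorem kdeg : (p : ℤ) * (#A * (a * b + a - b) + #B * (a - 1) - #C - #D * (b + 1)) + e +
    δ * charDegree (θ : G → ℂ) = 0 := by
  have h1 := h.deg
  have h2 : (#A : ℤ) + #B + #C + #D + 1 = e := by exact_mod_cast h.cnt
  rw [h.mz, h.pz] at h1
  rw [h.pz]
  linear_combination h1 - h2

omit [Finite G] in
theorem ndvd_a (hl : l.Prime) (h1 : l ∣ a) : ¬ l ∣ p * (p + a) := fun h2 => by
  have h3 : ¬ l ∣ p := fun h3 => hl.not_dvd_one
    ((Nat.dvd_add_right (h1.mul_right b)).1 (h.hp ▸ h3))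
  exact (hl.dvd_mul.1 h2).elim h3 fun h4 => h3 ((Nat.dvd_add_left h1).1 h4)

omit [Finite G] in
theorem ndvd_b (hl : l.Prime) (h1 : l ∣ b) : ¬ l ∣ p * m := fun h2 => by
  have h3 : ¬ l ∣ p := fun h3 => hl.not_dvd_one
    ((Nat.dvd_add_right (h1.mul_left a)).1 (h.hp ▸ h3))
  exact (hl.dvd_mul.1 h2).elim h3 fun h4 => h3 (h.hm ▸ dvd_add h4 h1)

variable (hx : orderOf x = p) (hc : Nat.card (centralizer ({x} : Set G)) = p)
include hx hc

omit [Finite G] in
theorem card : Nat.card G = p * (e * (m * (p + a))) := by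
  rw [← (centralizer ({x} : Set G)).card_mul_index, hc, h.idx x hx]

theorem vanC (hu : u ∈ normalizer ((zpowers x : Subgroup G) : Set G)) (h1 : u ∉ zpowers x)
    (hχ : χ ∈ C) : (χ : G → ℂ) u = 0 := by
  have := Fact.mk h.prime
  rw [← avg_eq_of_selfCent χ.2.isClassFunction hx hc hu h1,
    avg_eq_zero χ.2.isCharacter (h.fixC hχ ((Nat.card_zpowers x).trans hx)) hu]

theorem card_A : #A = 0 := by
  by_contra h0
  have h1 := h.sq_le
  have h2 := h.et
  have h3 := h.a2
  have h4 := h.ab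
  have h5 := h.hp
  have h6 := h.hm
  have h7 := h.m_pos
  rw [h.card hx hc] at h1
  rcases Nat.eq_or_lt_of_le (show 1 ≤ t from h.t_pos) with rfl | h8
  · have h9 : #C = 0 := card_eq_zero.2 (eq_empty_of_forall_notMem fun χ hχ => by
      have := (h.tC hχ).1; omega)
    obtain ⟨rfl, h10⟩ := h.exc.resolve_right (by omega)
    have h11 := h.deg
    have h12 := h.cnt
    rw [one_mul] at h10
    rw [h9] at h1 h11 h12
    rw [h10] at h1 h11
    rw [mul_one] at h2
    subst h2
    zify at h1 h12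
    push_cast at h11
    have h13 := h.mz
    have h14 := h.pz
    have h15 : (p : ℤ) ^ 2 * (#A * (m * (p + a))) ≤ p ^ 2 * ((a - 1) * (b + 1)) := by
      have : (p : ℤ) ^ 2 * ((a - 1) * (b + 1)) - (p : ℤ) ^ 2 * (#A * (m * (p + a))) =
          p * (a * b * (m * (p + a))) - (1 + #A * (m * (p + a)) ^ 2 + #B * (a * m) ^ 2 +
          #D * (b * (p + a)) ^ 2 + (b * (p + a)) ^ 2) := by
        rw [h13, h14] at h11 ⊢
        linear_combination (a * (a * b + 1 - b) * (b * (a * b + 1 + a))) * h12 +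
          (a * (a * b + 1 - b) - b * (a * b + 1 + a)) * h11
      linarith
    have h16 := le_of_mul_le_mul_left h15 (by have := h.five_le; positivity)
    have h17 : (1 : ℤ) ≤ #A := by omega
    have h18 : (1 : ℤ) ≤ m := by omega
    have h19 : (1 : ℤ) ≤ #A * m := by nlinarith
    nlinarith
  · have h9 : (m * (p + a)) ^ 2 ≤ p * (e * (m * (p + a))) :=
      le_trans (Nat.le_mul_of_pos_left _ (Nat.pos_of_ne_zero h0)) (by omega)
    rw [pow_two, ← mul_assoc p] at h9
    have h10 := Nat.le_of_mul_le_mul_right h9 (by positivity)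
    have h11 : e * 2 ≤ a * b := h2 ▸ Nat.mul_le_mul_left e h8
    have h12 : e < m := by nlinarith
    nlinarith

theorem not_vanish (hu : u ∈ normalizer ((zpowers x : Subgroup G) : Set G)) (h1 : u ∉ zpowers x)
    (h4 : ¬ p ∣ orderOf u) (h3 : ∀ χ ∈ D, (χ : G → ℂ) u = 0) :
    1 + ∑ χ ∈ B, (χ : G → ℂ) u + δ * (θ : G → ℂ) u = 0 := by
  have := h.reg2 h4
  rw [card_eq_zero.1 (h.card_A hx hc), sum_eq_zero h3,
    sum_eq_zero fun χ => h.vanC hx hc hu h1] at this
  simpa using this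

theorem exists_E : ∃ u ∈ normalizer ((zpowers x : Subgroup G) : Set G), orderOf u = e ∧
    ∀ k, ¬ e ∣ k → u ^ k ∉ zpowers x ∧ ¬ p ∣ orderOf (u ^ k) := by
  obtain ⟨u, h1, h2, h3⟩ := h.exists_compl hx hc
  exact ⟨u, h1, h2, fun k hk => ⟨fun h4 => hk (h3 k h4), fun h4 => h.prime.one_lt.ne'
    (Nat.eq_one_of_dvd_coprimes h.coprime.symm dvd_rfl (h2 ▸ h4.trans (orderOf_pow_dvd k)))⟩⟩

/-- If the exceptional characters have degree `a * m / t` we get a contradiction. -/
theorem not_three (h1 : δ = 1) (h2 : t * charDegree (θ : G → ℂ) = a * m) (ht : 2 ≤ t) : False := by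
  obtain ⟨a', ha'⟩ := h.dvd_a ⟨_, h2.symm⟩
  have h3 := h.a2
  have h4 := h.ab
  have h5 : e = a' * b := Nat.eq_of_mul_eq_mul_right h.t_pos (by rw [h.et, ha']; ring)
  have h6 : charDegree (θ : G → ℂ) = a' * m :=
    Nat.eq_of_mul_eq_mul_left h.t_pos (by rw [h2, ha']; ring)
  have h7 := h.kdeg
  have h8 := h.cnt
  have h9 := h.card hx hc
  rw [h.card_A hx hc] at h7 h8
  have h10 : (a : ℤ) * #B + a' + 1 = b * (#D + a') := by
    refine mul_left_cancel₀ (show (p : ℤ) ≠ 0 by have := h.five_le; omega) ?_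
    zify at h8 h5 ha'
    rw [h1, h6] at h7
    push_cast at h7
    rw [h.mz, h5] at h7
    rw [h.pz] at h7 ⊢
    linear_combination h7 + (a * b + 1) * (h8.trans h5)
  rcases Nat.eq_or_lt_of_le (show 1 ≤ a' from Nat.pos_of_ne_zero (by rintro rfl; omega)) with
    rfl | h11
  · rw [mul_one] at ha'
    subst ha'
    have h12 : ∀ χ ∈ C, 2 ∣ a ∧ (a : ℤ) ∣ a + 1 - b := fun χ => h.tC
    rcases B.eq_empty_or_nonempty with rfl | ⟨χ, hχ⟩
    · have h13 : b * (#D + 1) = 2 := by zify; simpa using h10.symm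
      obtain rfl : b = 2 := by nlinarith
      obtain rfl : a = 2 := by omega
      obtain ⟨ξ, hξ⟩ : C.Nonempty := card_pos.1 (by simp at h8; omega)
      have := (h12 ξ hξ).2
      omega
    · obtain ⟨c, rfl⟩ := h.tB hχ
      have h13 : (a : ℤ) ∣ 2 := ⟨c * (#D + 1) - #B, by push_cast at h10; linear_combination h10⟩
      obtain rfl : a = 2 := by have := Int.le_of_dvd two_pos h13; omega
      have h14 : #C = 0 := card_eq_zero.2 (eq_empty_of_forall_notMem fun ξ hξ => by
        have := (h12 ξ hξ).2; omega)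
      have h15 : (2 * c + 2 : ℤ) ∣ 2 := ⟨#B - 2 * c + 2, by
        zify at h8 h5 h14
        push_cast at h10
        linear_combination -h10 - 2 * c * (h8.trans h5) + 2 * c * h14⟩
      have := Int.le_of_dvd two_pos h15
      omega
  · obtain ⟨l, hl, h12⟩ := Nat.exists_prime_and_dvd h11.ne'
    obtain ⟨k, hk, h13⟩ := Nat.exists_prime_and_dvd (show b ≠ 1 by omega)
    have h14 : ∀ q : ℕ, q.Prime → q ∣ a' → ¬ q ∣ b := fun q hq h14 h15 => hq.not_dvd_one (by
      have h16 : (q : ℤ) ∣ a' := by exact_mod_cast h14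
      have h17 : (q : ℤ) ∣ b := by exact_mod_cast h15
      have h18 : (q : ℤ) ∣ a := by rw [ha']; exact_mod_cast h14.mul_left t
      have : (q : ℤ) ∣ 1 := by
        rw [show (1 : ℤ) = b * (#D + a') - a * #B - a' by linear_combination h10]
        exact ((h17.mul_right _).sub (h18.mul_right _)).sub h16
      exact_mod_cast this)
    obtain ⟨u, h15, h16, h17⟩ := h.exists_E hx hc
    obtain ⟨h18, h19⟩ := h17 1 (by rw [h5]; intro h; have := Nat.le_of_dvd one_pos h; nlinarith)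
    rw [pow_one] at h18 h19
    have h20 : ¬ l ∣ p * (p + a) * b := fun h20 =>
      (hl.dvd_mul.1 h20).elim (h.ndvd_a hl (ha' ▸ h12.mul_left t)) (h14 l hl h12)
    have h21 := h.not_vanish hx hc h15 h18 h19 fun χ hχ => vanish χ.2 (k := p * m * a')
      (by rw [h9, (h.hD χ hχ).2.2, h5]; ring) hk (fun h21 =>
        (hk.dvd_mul.1 h21).elim (h.ndvd_b hk h13) fun h22 => h14 k hk h22 h13)
      (h16 ▸ h5 ▸ h13.mul_left _)
    rw [vanish θ.2 (k := p * (p + a) * b) (by rw [h9, h6, h5]; ring) hl h20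
      (h16 ▸ h5 ▸ h12.mul_right _), sum_eq_zero fun χ hχ => ?_] at h21
    · simp at h21
    · obtain ⟨c, hc⟩ := h.tB hχ
      exact vanish χ.2 (k := p * (p + a) * c) (by rw [h9, (h.hB χ hχ).2.2, h5, ha', hc]; ring) hl
        (fun h22 => h20 (h22.trans (mul_dvd_mul_left _ ⟨t, by rw [hc, mul_comm]⟩)))
        (h16 ▸ h5 ▸ h12.mul_right _)

end NP

end Cfsg.Lib.Np
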