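import Cfsg.Agent.Lib.Np.One
import Cfsg.Agent.Lib.Np.Coset
import Cfsg.Agent.Lib.Inv.Count

/-!
# The self-centralizing case, second part
-/

set_option autoImplicit false

namespace Cfsg.Lib.Np

open Cfsg.Lib.Char Cfsg.Lib.Small Cfsg.Lib.Cyc Subgroup Finset
open scoped MatrixGroups ComplexConjugate

theorem isIntegral_div_of_mul {z : ℂ} {a k : ℕ} (h0 : a ≠ 0) (hz : IsIntegral ℤ z)
    (h1 : IsIntegral ℤ (k * z / a)) (h2 : a.Coprime k) : IsIntegral ℤ (z / a) := by
  obtain ⟨c, d, h3⟩ := Nat.isCoprime_iff_coprime.2 h2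
  have h4 : (c : ℂ) * a + d * k = 1 := by exact_mod_cast h3
  have h5 : (a : ℂ) ≠ 0 := Nat.cast_ne_zero.2 h0
  rw [show z / a = c * z + d * (k * z / a) by field_simp; linear_combination (-z) * h4]
  exact (isIntegral_algebraMap.mul hz).add (isIntegral_algebraMap.mul h1)

variable {G : Type*} [Group G] [Finite G] {p e t a b m l : ℕ}
  {S Y A B C D : Finset (IrrCharacter G)}
  {s : IrrCharacter G → ℤ} {δ : ℤ} {χ θ : IrrCharacter G} {g x y u v : G}

theorem isIntegral_of_index {ψ : G → ℂ} (hψ : IsIrrCharacter G ψ) {a d k c : ℕ} (h0 : a ≠ 0)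
    (h1 : charDegree ψ = a * d) (h2 : (centralizer ({y} : Set G)).index * c = d * k)
    (h3 : a.Coprime k) : IsIntegral ℤ (ψ y / a) := by
  refine isIntegral_div_of_mul h0 (hψ.isIntegral y) ?_ h3
  have h4 := (isIntegral_algebraMap (R := ℤ) (A := ℂ) (x := c)).mul (hψ.isIntegral_centralChar y)
  have h5 : ((centralizer ({y} : Set G)).index : ℂ) * c = d * k := by exact_mod_cast h2
  have h6 := hψ.apply_one_ne_zero
  rw [centralChar_def, hψ.apply_one_eq, h1] at h4
  rw [hψ.apply_one_eq, h1, Nat.cast_mul, mul_ne_zero_iff] at h6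
  have := h6.1
  have := h6.2
  rw [algebraMap_int_eq, eq_intCast, Int.cast_natCast, Nat.cast_mul] at h4
  rwa [show (k : ℂ) * ψ y / a = c * ((centralizer ({y} : Set G)).index * ψ y / (a * d)) by
    field_simp
    linear_combination -(ψ y) * h5]

namespace NP

variable (h : NP p e t a b m S Y A B C D s δ θ)
include h

omit [Finite G] in
theorem coprime_a : a.Coprime (p * (p + a)) :=
  Nat.coprime_of_dvd fun _ hl h1 => h.ndvd_a hl h1

variable (hx : orderOf x = p) (hc : Nat.card (centralizer ({x} : Set G)) = p)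
include hx hc

theorem not_dvd_cent (h1 : v ≠ 1) (h2 : ¬ p ∣ orderOf v) :
    ¬ p ∣ Nat.card (centralizer ({v} : Set G)) := fun h3 => by
  obtain ⟨z, h4, h5⟩ := exists_mem_orderOf_eq_prime h.prime h3
  have h6 := (show Commute z v from mem_centralizer_singleton_iff.1 h4)
    |>.orderOf_mul_eq_mul_orderOf_of_coprime (h5 ▸ h.prime.coprime_iff_not_dvd.2 h2)
  rw [orderOf_eq_of_selfCent h.toPB0 hx hc (h6 ▸ h5 ▸ dvd_mul_right _ _), h5] at h6
  exact h1 (orderOf_eq_one_iff.1 (Nat.eq_of_mul_eq_mul_left h.prime.pos (by omega)))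

theorem pairs (hu : ¬ p ∣ orderOf u) (hv : ¬ p ∣ orderOf v) :
    (Nat.card {q : G × G // IsConj u q.1 ∧ IsConj v q.2 ∧ q.1 * q.2 = x} : ℂ) *
      (Nat.card (centralizer ({u} : Set G)) * Nat.card (centralizer ({v} : Set G))) =
      Nat.card G * (1 + ∑ χ ∈ B, (χ : G → ℂ) u * (χ : G → ℂ) v / (χ : G → ℂ) 1 -
        ∑ χ ∈ C, (χ : G → ℂ) u * (χ : G → ℂ) v / (χ : G → ℂ) 1 -
        ∑ χ ∈ D, (χ : G → ℂ) u * (χ : G → ℂ) v / (χ : G → ℂ) 1 +
        δ * ((θ : G → ℂ) u * (θ : G → ℂ) v / (θ : G → ℂ) 1)) := by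
  classical
  have h1 := h.sum_S fun χ => (χ : G → ℂ) u * (χ : G → ℂ) v / (χ : G → ℂ) 1
  rw [card_eq_zero.1 (h.card_A hx hc), h.a_one] at h1
  rw [card_class_mul_eq, h.sum_eq, sum_eq_zero (s := (S ∪ Y)ᶜ) fun χ hχ => by
      rw [h.apply_eq_zero hx hc (fun e => by simp [e] at hχ) fun e => by simp [e] at hχ]; simp,
    sum_congr (s₁ := Y) rfl (g := fun η => conj ((η : G → ℂ) x) *
      ((θ : G → ℂ) u * (θ : G → ℂ) v / (θ : G → ℂ) 1)) fun η hη => by
        rw [h.reg_eq h.mem hη hu, h.reg_eq h.mem hη hv, h.reg_eq h.mem hη h.not_dvd_one]; ring,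
    ← sum_mul, ← map_sum, h.singY x hx.symm.dvd, sum_congr (s₁ := S) rfl (g := fun χ => s χ *
      ((χ : G → ℂ) u * (χ : G → ℂ) v / (χ : G → ℂ) 1)) fun χ hχ => by
        rw [h.singS χ hχ x hx.symm.dvd, map_intCast]; ring, h1]
  have h2 : (Nat.card (centralizer ({u} : Set G)) : ℂ) * (centralizer ({u} : Set G)).index =
      Nat.card G := by exact_mod_cast card_mul_index _
  have h3 : (Nat.card (centralizer ({v} : Set G)) : ℂ) * (centralizer ({v} : Set G)).index =
      Nat.card G := by exact_mod_cast card_mul_index _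
  have h4 := card_ne_zero_complex G
  simp only [irrOne_apply, sum_empty, map_intCast]
  rw [mul_right_comm, div_mul_eq_mul_div, mul_mul_mul_comm, mul_comm _ (Nat.card _ : ℂ), h2,
    mul_comm _ (Nat.card _ : ℂ), h3, mul_div_cancel_right₀ _ h4]
  simp

theorem not_two_aux (h1 : δ = 1) (h2 : t * charDegree (θ : G → ℂ) = m * (p + a)) (h3 : 2 ∣ t)
    (h4 : B = ∅) (h5 : D = ∅) : e ≤ 2 := by
  have h6 := h.deg
  have h7 := h.cnt
  have h8 := h.card hx hc
  have h9 := h.et
  have h10 := h.five_le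
  have h11 := card_eq_zero.1 (h.card_A hx hc)
  rw [← h2, ← mul_assoc e, h9] at h8
  rw [h11, h4, h5] at h6 h7
  generalize hn : charDegree (θ : G → ℂ) = n at *
  have h12 : n + 1 = #C * (a * b) := by zify; simp [h1] at h6; linear_combination h6
  have h13 : 2 ∣ a * b := h9 ▸ h3.mul_left e
  have h14 : ¬ 2 ∣ p * n := fun h14 => by
    have := h13.mul_left #C
    have := h.hp
    have := Nat.prime_two.dvd_mul.1 h14
    omega
  obtain ⟨u, hu⟩ := exists_prime_orderOf_dvd_card' (G := G) 2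
    (h8 ▸ (h13.mul_right n).mul_left p)
  have h15 : ¬ p ∣ orderOf u := hu ▸ Nat.not_dvd_of_pos_of_lt two_pos (by omega)
  have h16 : ∀ χ ∈ C, (χ : G → ℂ) u = 0 := fun χ hχ => vanish χ.2 (k := p * n)
    (by rw [h8, (h.hC χ hχ).2.2]; ring) Nat.prime_two h14 hu.symm.dvd
  have h17 : (θ : G → ℂ) u = -1 := by
    have := h.reg2 h15
    rw [h11, h4, h5, sum_eq_zero h16, h1] at this
    simp only [sum_empty, Int.cast_one] at this
    linear_combination this
  have h18 := h.pairs hx hc h15 h15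
  have hn0 : n ≠ 0 := hn ▸ θ.2.charDegree_pos.ne'
  have h19 : n ∣ (centralizer ({u} : Set G)).index := by
    have := (θ.2.isIntegral_centralChar u).neg
    rw [centralChar_def, h17, θ.2.apply_one_eq, hn] at this
    exact nat_dvd_of_isIntegral_div hn0 (by simpa [neg_div] using this)
  have h20 := h.not_dvd_cent hx hc (fun e => by simp [e] at hu) h15
  have h21 : Nat.card {q : G × G // IsConj u q.1 ∧ IsConj u q.2 ∧ q.1 * q.2 = x} ≤ p :=
    (Nat.card_le_card_of_injective (Subtype.map id fun q hq => ⟨(orderOf_eq_of_isConj hq.1).symm.trans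
      hu, (orderOf_eq_of_isConj hq.2.1).symm.trans hu, hq.2.2⟩)
      (Subtype.map_injective _ Function.injective_id)).trans ((Inv.card_pairs_le x).trans hc.le)
  obtain ⟨k, hk⟩ := h19
  have hab : 0 < a * b := by have := h.hp; omega
  have h22 := (centralizer ({u} : Set G)).card_mul_index
  rw [hk, h8, ← mul_assoc p, mul_comm n, ← mul_assoc] at h22
  have h23 := Nat.le_of_dvd hab ((h.prime.coprime_iff_not_dvd.2 h20).symm.dvd_of_dvd_mul_left
    ⟨k, (Nat.eq_of_mul_eq_mul_right (Nat.pos_of_ne_zero hn0) h22).symm⟩)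
  rw [h4, h5, sum_eq_zero (s := C) fun χ hχ => by simp [h16 χ hχ], h17, θ.2.apply_one_eq, hn, h1,
    h8] at h18
  generalize Nat.card {q : G × G // IsConj u q.1 ∧ IsConj u q.2 ∧ q.1 * q.2 = x} = N at *
  generalize Nat.card (centralizer ({u} : Set G)) = c at *
  have h24 : N * (c * c) = p * (a * b * (n + 1)) := by
    have : (n : ℂ) ≠ 0 := Nat.cast_ne_zero.2 hn0
    have h24 : (N : ℂ) * (c * c) = p * (a * b * (n + 1)) := by
      rw [h18]; push_cast; field_simp; simp
    exact_mod_cast h24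
  have h25 := Nat.mul_le_mul h21 (Nat.mul_le_mul h23 h23)
  rw [h24, h12] at h25
  have h26 := Nat.le_of_mul_le_mul_left (Nat.le_of_mul_le_mul_left h25 (by omega)) hab
  have h27 : #C ≤ 1 := Nat.le_of_mul_le_mul_right (c := a * b) (by omega) hab
  simp at h7
  omega

/-- If the exceptional characters have degree `n / t` we get a contradiction. -/
theorem not_two (h1 : δ = 1) (h2 : t * charDegree (θ : G → ℂ) = m * (p + a)) (ht : 2 ≤ t) :
    False := by
  classical
  have := Fact.mk h.prime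
  have h3 := h.a2
  have h4 := h.ab
  have h5 := h.dvd_n ⟨_, h2.symm⟩
  have h6 := h.et
  have h7 := h.kdeg
  have h8 := h.cnt
  have h9 := h.card hx hc
  have hp0 : (p : ℤ) ≠ 0 := by have := h.five_le; omega
  rw [h.card_A hx hc] at h7 h8
  have h10 : (t : ℤ) * a * #B + t + a + 1 = b * (1 + t * #D) := by
    refine mul_left_cancel₀ hp0 ?_
    zify at h8 h6 h2
    rw [h1] at h7
    rw [h.mz] at h2
    rw [h.pz] at h7 h2 ⊢
    linear_combination t * h7 - h2 + (a * b + 1) * t * h8 + a * b * h6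
  have h11 : D = ∅ := eq_empty_of_forall_notMem fun ξ hξ => by
    have h11 : (t : ℤ) ∣ a := by exact_mod_cast h.tD hξ
    have h12 : (1 : ℤ) ≤ #D := by exact_mod_cast card_pos.2 ⟨ξ, hξ⟩
    rcases B.eq_empty_or_nonempty with rfl | ⟨χ, hχ⟩
    · simp only [card_empty, Nat.cast_zero, mul_zero, zero_add] at h10
      zify at h3 h4 ht
      nlinarith [mul_le_mul h4 (show (1 : ℤ) + t ≤ 1 + t * #D by nlinarith) (by omega) (by omega)]
    · have h13 : (t : ℤ) ∣ b := by exact_mod_cast h.tB hχ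
      have := Int.le_of_dvd one_pos (show (t : ℤ) ∣ 1 by simpa using (h5.add h13).sub h11)
      omega
  rw [h11] at h7 h8 h10
  have h12 : b = t * a * #B + t + a + 1 := by zify; simpa using h10.symm
  obtain ⟨ξ, hξ⟩ : C.Nonempty := card_pos.1 (Nat.pos_of_ne_zero fun h13 => by
    rw [h13] at h8
    simp only [card_empty, zero_add, add_zero] at h8
    rw [← h8, h12] at h6
    nlinarith [Nat.mul_le_mul h3 (le_refl (t * a * #B)), Nat.mul_le_mul h3 (le_refl (t * #B))])
  have h13 := (h.tC hξ).1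
  rcases B.eq_empty_or_nonempty with rfl | ⟨χ, hχ⟩
  · have := h.not_two_aux hx hc h1 h2 h13 rfl h11
    rw [h12, card_empty, mul_zero, zero_add] at h6
    nlinarith [Nat.mul_le_mul_right t this, Nat.mul_le_mul_right t h3]
  obtain ⟨b', hb⟩ := h.tB hχ
  obtain ⟨c, rfl⟩ := h13
  have h14 : e = a * b' := Nat.eq_of_mul_eq_mul_right h.t_pos (by rw [h6, hb]; ring)
  have h15 : Odd a := by
    have h15 : (2 : ℤ) ∣ a + 1 - b := (Dvd.intro _ (by push_cast; rfl)).trans h5
    rw [hb, mul_assoc] at h15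
    exact Nat.odd_iff.2 (by omega)
  obtain ⟨u, h16, h17, h18⟩ := h.exists_E hx hc
  have hR := (Nat.card_zpowers x).trans hx
  have h19 : ∀ ψ : IrrCharacter G, ∀ k, ¬ e ∣ k → avg (ψ : G → ℂ) (zpowers x) (u ^ k) =
      (ψ : G → ℂ) (u ^ k) := fun ψ k hk =>
    avg_eq_of_selfCent ψ.2.isClassFunction hx hc (pow_mem h16 k) (h18 k hk).1
  have h20 := fun ψ : IrrCharacter G => isCharacter_avg (A := zpowers x) ψ.2.isCharacter le_rfl
  have h21 : charDegree (fun g : normalizer ((zpowers x : Subgroup G) : Set G) =>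
      avg (χ : G → ℂ) (zpowers x) g) = a := (charDegree_congr rfl).trans (h.fixB hχ hR)
  refine coset h.perf χ.2.isCharacter (h20 χ) ((isCharacter_sum (B.erase χ) _
    fun ψ _ => h20 ψ).add (h20 θ)) (u := ⟨u, h16⟩) (c := (a - 1) * c) h.pos
    (Subtype.ext (h17 ▸ pow_orderOf_eq_one u)) (fun k hk => (h19 χ k hk).symm) ?_ (fun k hk => ?_)
    ?_ (h21.symm ▸ h15) fun k => ?_
  · rw [h21, (h.hB χ hχ).2.2]
    zify [show 1 ≤ a by omega] at hb h14 ⊢
    rw [h.mz, h14, hb]; ring
  · have := h.not_vanish hx hc (pow_mem h16 k) (h18 k hk).1 (h18 k hk).2 (by simp [h11])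
    rw [← add_sum_erase _ _ hχ, h1] at this
    simp only [Pi.add_apply, Finset.sum_apply, SubmonoidClass.coe_pow, h19 _ k hk]
    linear_combination this
  · rw [h21, charDegree_eq_of_apply_one (n := #(B.erase χ) * a + fixDim (θ : G → ℂ) (zpowers x)) (by
      simp only [Pi.add_apply, Finset.sum_apply, OneMemClass.coe_one]
      rw [sum_congr rfl fun ψ hψ => by
        rw [avg_one ψ.2.isCharacter, h.fixB (mem_of_mem_erase hψ) hR], avg_one θ.2.isCharacter]
      simp)]
    have h22 := h.fixY h.mem hR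
    have h23 := card_erase_add_one hχ
    zify at h8 h23 ⊢
    refine mul_left_cancel₀ hp0 ?_
    rw [h1] at h7 h22
    simp only [card_empty, Nat.cast_zero] at h7 h8
    linear_combination h22 + h7 + p * h8 + p * a * h23
  · rw [h21]
    by_cases hk : e ∣ k
    · right
      rw [show (⟨u, h16⟩ : normalizer ((zpowers x : Subgroup G) : Set G)) ^ k = 1 from Subtype.ext
        (orderOf_dvd_iff_pow_eq_one.1 (h17 ▸ hk)), (h20 χ).norm_apply_one, h21]
    obtain ⟨c', hc'⟩ : e ∣ Nat.card (centralizer ({u ^ k} : Set G)) := h17 ▸ orderOf_dvd_natCard _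
      (mem_centralizer_singleton_iff.2 (Commute.self_pow u k))
    have h22 := (centralizer ({u ^ k} : Set G)).card_mul_index
    have := (h20 χ).eq_zero_or_norm_eq_of_isIntegral_div (g := ⟨u, h16⟩ ^ k) (by
      rw [(h20 χ).apply_one_eq, h21, SubmonoidClass.coe_pow, h19 χ k hk]
      exact isIntegral_of_index χ.2 (by omega) (h.hB χ hχ).2.2 (c := c')
        (Nat.eq_of_mul_eq_mul_left h.pos (by rw [hc', h9] at h22; linear_combination h22))
        h.coprime_a)
    rwa [(h20 χ).norm_apply_one, h21] at this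

end NP

end Cfsg.Lib.Np
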